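import Cfsg.Agent.H710.Cuspidal
import Cfsg.Agent.Blocks.ClassScalar
import Cfsg.Agent.Characters.Linear
import Cfsg.Agent.OddOrderCharacters.IndRes
import Cfsg.Agent.H45.GG.Series_m3
import Cfsg.Agent.FastGrp
import Cfsg.Agent.Prune
set_option linter.all false

section
prune_inst 0x7f00000000000000000000000000000000000000000000000000000000000000000000000000000000000000000000000000000000000000000000000000000000000000000000000000000000000000003ffffffffffffffffffff7ffffffbeffbdf3feffff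

-- part: H115/HC/CuspCentral
section
set_option linter.all false
open scoped Cfsg.Agent.FastGrp

/-!
# Cuspidal characters with a prescribed central character (helper115, TEAM DEG)

`G` a finite group with a rank one Bruhat decomposition (`RankOneAbstract.Data H U w`, so `|G : H| = |U| + 1`), `H / U`
commutative, `f : H → ℂˣ` trivial on `U`, `Z ≤ H` central in `G`.

* `exists_cuspidal_central` : there is an irreducible character without fixed vectors under `U` whose central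
  character on `Z` is `f`.
-/

set_option autoImplicit false
set_option linter.dupNamespace false

namespace Cfsg.Agent.H115.HC.CuspCentral

open Cfsg Cfsg.Agent.Characters.Core Cfsg.Agent.Characters.DegreeBounds Cfsg.Agent.H710.Cuspidal Cfsg.Agent.LieRecognition.RankOneAbstract Module
open scoped ComplexConjugate

variable {G : Type*} [Group G]

section central

/-- central elements act by scalars -/
theorem central_apply {χ : G → ℂ} (hχ : IsIrrCharacter G χ) {z : G} (hz : ∀ g, z * g = g * z) (x : G) :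
    χ (z * x) = χ z / χ 1 * χ x := by
  obtain ⟨n, ρ, hρ, rfl⟩ := hχ
  obtain ⟨c, hc⟩ := Cfsg.Agent.Blocks.ClassScalar.exists_smul_of_commute ρ hρ (ρ z) (fun g => by
    rw [← map_mul, ← map_mul, hz g])
  have h1 : ∀ y, ρ.character (z * y) = c * ρ.character y := by
    intro y
    change LinearMap.trace ℂ _ (ρ (z * y)) = c * LinearMap.trace ℂ _ (ρ y)
    rw [map_mul, hc, smul_mul_assoc, one_mul, map_smul, smul_eq_mul]
  have h2 : ρ.character 1 ≠ 0 := isIrr_apply_one_ne_zero ⟨n, ρ, hρ, rfl⟩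
  have h3 := h1 1
  rw [mul_one] at h3
  rw [h1 x, h3, mul_div_assoc, div_self h2, mul_one]

/-- orthogonality over a central subgroup -/
theorem sum_central {χ : G → ℂ} (hχ : IsIrrCharacter G χ) (Z : Subgroup G) [Fintype Z]
    (hZ : ∀ z ∈ Z, ∀ g, z * g = g * z) (f : Z →* ℂˣ) :
    (∑ z : Z, ((f z)⁻¹ : ℂˣ) * χ z = (Nat.card Z : ℂ) * χ 1 ∧ ∀ z : Z, χ z = f z * χ 1) ∨
      ∑ z : Z, ((f z)⁻¹ : ℂˣ) * χ z = 0 := by
  classical
  by_cases hall : ∀ z : Z, χ z = f z * χ 1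
  · left
    refine ⟨?_, hall⟩
    rw [Finset.sum_congr rfl (g := fun _ => χ 1) fun z _ => by
      rw [hall z, ← mul_assoc, Units.inv_mul, one_mul]]
    rw [Finset.sum_const, Finset.card_univ, nsmul_eq_mul, Nat.card_eq_fintype_card]
  · right
    push Not at hall
    obtain ⟨a, ha⟩ := hall
    have h1 : χ 1 ≠ 0 := isIrr_apply_one_ne_zero hχ
    have h2 : ∑ z : Z, ((f z)⁻¹ : ℂˣ) * χ z = ((f a)⁻¹ : ℂˣ) * (χ a / χ 1) * ∑ z : Z, ((f z)⁻¹ : ℂˣ) * χ z := by
      conv_lhs => rw [← Equiv.sum_comp (Equiv.mulLeft a)]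
      rw [Finset.mul_sum]
      refine Finset.sum_congr rfl fun z _ => ?_
      rw [Equiv.coe_mulLeft, map_mul, mul_inv, Units.val_mul, Subgroup.coe_mul, central_apply hχ (hZ a a.2)]
      ring
    by_contra hne
    have h3 : ((f a)⁻¹ : ℂˣ) * (χ a / χ 1) = (1 : ℂ) := by
      have h4 : ((((f a)⁻¹ : ℂˣ) : ℂ) * (χ a / χ 1) - 1) * ∑ z : Z, ((f z)⁻¹ : ℂˣ) * χ z = 0 := by
        rw [sub_mul, ← h2, one_mul, sub_self]
      rcases mul_eq_zero.1 h4 with h5 | h5
      · exact sub_eq_zero.1 h5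
      · exact absurd h5 hne
    apply ha
    rw [Units.inv_mul_eq_iff_eq_mul, mul_one, div_eq_iff h1] at h3
    exact h3

/-- a class function with central character `f` on `Z` only involves the irreducible characters with central
character `f` -/
theorem classInner_eq_zero [Fintype G] {χ : G → ℂ} (hχ : IsIrrCharacter G χ) (Z : Subgroup G)
    (hZ : ∀ z ∈ Z, ∀ g, z * g = g * z) (f : Z →* ℂˣ) {Φ : G → ℂ} (hΦ : ∀ (z : Z) x, Φ (z * x) = f z * Φ x)
    {z : Z} (hz : χ z ≠ f z * χ 1) : classInner Φ χ = 0 := by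
  have h1 : χ 1 ≠ 0 := isIrr_apply_one_ne_zero hχ
  have h2 := central_apply hχ (hZ z z.2) ((z : G)⁻¹)
  rw [mul_inv_cancel] at h2
  have h3 : ∀ y, conj (χ y) = χ y⁻¹ := fun y => (isCharacter_apply_inv (isIrr_isCharacter hχ) y).symm
  have h4 : ∑ x : G, Φ x * conj (χ x) = f z * (χ (z : G)⁻¹ / χ 1) * ∑ x : G, Φ x * conj (χ x) := by
    conv_lhs => rw [← Equiv.sum_comp (Equiv.mulLeft (z : G))]
    rw [Finset.mul_sum]
    refine Finset.sum_congr rfl fun x _ => ?_
    rw [Equiv.coe_mulLeft, hΦ, central_apply hχ (hZ z z.2), map_mul, map_div₀, h3 z, h3 1, inv_one]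
    ring
  rw [classInner_def, mul_eq_zero]
  right
  by_contra hne
  have h5 : f z * (χ (z : G)⁻¹ / χ 1) = (1 : ℂ) := by
    have h6 : ((f z : ℂ) * (χ (z : G)⁻¹ / χ 1) - 1) * ∑ x : G, Φ x * conj (χ x) = 0 := by
      rw [sub_mul, ← h4, one_mul, sub_self]
    rcases mul_eq_zero.1 h6 with h7 | h7
    · exact sub_eq_zero.1 h7
    · exact absurd h7 hne
  apply hz
  have h6 : χ (z : G)⁻¹ ≠ 0 := by
    intro h7
    rw [h7, zero_div, mul_zero] at h5
    exact zero_ne_one h5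
  have h7 : (f z : ℂ) * χ (z : G)⁻¹ = χ 1 := by
    field_simp at h5
    exact h5
  have h8 : χ z * χ (z : G)⁻¹ = χ 1 * χ 1 := by
    field_simp at h2
    rw [← h2]
    ring
  apply mul_right_cancel₀ h6
  rw [h8, mul_assoc, mul_comm (χ 1) (χ (z : G)⁻¹), ← mul_assoc, h7]

/-- the two counting identities -/
theorem sum_irr_central [Finite G] (U Z : Subgroup G) [Fintype U] [Fintype Z] [Fintype (IrrCharacter G)]
    (hZ : ∀ z ∈ Z, ∀ g, z * g = g * z) (hUZ : ∀ u ∈ U, u ∈ Z → u = 1) (f : Z →* ℂˣ) {x : G} (hx : x ∈ U) :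
    ∑ χ : IrrCharacter G, (∑ z : Z, ((f z)⁻¹ : ℂˣ) * (χ : G → ℂ) z) * (χ : G → ℂ) x =
      (Nat.card G : ℂ) * Cfsg.Agent.CharDeep.PowerDegrees.delta G x := by
  classical
  have := Fintype.ofFinite G
  have hc : (Nat.card G : ℂ) ≠ 0 := card_ne_zero_complex
  have h1 : ∀ g : G, ∑ χ : IrrCharacter G, (χ : G → ℂ) 1 * (χ : G → ℂ) g =
      (Nat.card G : ℂ) * Cfsg.Agent.CharDeep.PowerDegrees.delta G g := by
    intro g
    rw [Cfsg.Agent.CharDeep.PowerDegrees.delta_eq_sum, Finset.sum_apply, Finset.mul_sum]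
    refine Finset.sum_congr rfl fun χ _ => ?_
    rw [Pi.smul_apply, smul_eq_mul]
    field_simp
  have h2 : ∀ χ : IrrCharacter G, (∑ z : Z, ((f z)⁻¹ : ℂˣ) * (χ : G → ℂ) z) * (χ : G → ℂ) x =
      ∑ z : Z, ((f z)⁻¹ : ℂˣ) * ((χ : G → ℂ) 1 * (χ : G → ℂ) (z * x)) := by
    intro χ
    rw [Finset.sum_mul]
    refine Finset.sum_congr rfl fun z _ => ?_
    have h3 : (χ : G → ℂ) 1 ≠ 0 := isIrr_apply_one_ne_zero χ.2
    rw [central_apply χ.2 (hZ z z.2) x]
    field_simp
  rw [Finset.sum_congr rfl fun χ _ => h2 χ, Finset.sum_comm]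
  rw [Finset.sum_congr rfl fun (z : Z) _ => (Finset.mul_sum _ _ _).symm]
  rw [Finset.sum_congr rfl fun (z : Z) _ => by rw [h1 (z * x)]]
  rw [Finset.sum_eq_single (1 : Z)]
  · rw [map_one, inv_one, Units.val_one, one_mul, OneMemClass.coe_one, one_mul]
  · intro z _ hz
    have h3 : (z : G) * x ≠ 1 := by
      intro h4
      apply hz
      have h5 : x = ((z⁻¹ : Z) : G) := by
        rw [InvMemClass.coe_inv]
        exact eq_inv_of_mul_eq_one_right h4
      have h6 : x = 1 := hUZ x hx (by rw [h5]; exact (z⁻¹).2)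
      rw [h6, mul_one] at h4
      exact Subtype.ext h4
    rw [Cfsg.Agent.CharDeep.PowerDegrees.delta_ne h3, mul_zero, mul_zero]
  · intro h
    exact absurd (Finset.mem_univ _) h

end central

section rep

variable {V : Type*} [AddCommGroup V] [Module ℂ V] (ρ : Representation ℂ G V)

/-- If the fixed space of `U` is a line, the degree is at most `|U|`. -/
theorem finrank_le_card [Finite G] [ρ.IsIrreducible] {H U : Subgroup G} {w : G} (D : Data H U w) [Fintype U]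
    {v : V} (hv0 : v ≠ 0) (hv : ∀ h ∈ H, ∃ c : ℂ, ρ h v = c • v)
    (hm : ∀ y, ∃ c : ℂ, Z ρ U y = c • v) : finrank ℂ V ≤ Nat.card U := by
  classical
  let b : U → V := fun s => ρ ((s : G) * w) v
  -- the span of `v` and the `b s` is everything
  have hspan : ∀ S : Submodule ℂ V, v ∈ S → (∀ s, b s ∈ S) → S = ⊤ := by
    intro S hvS hbS
    have key : ∀ g : G, ρ g v ∈ S := by
      intro g
      by_cases hg : g ∈ H
      · obtain ⟨c, hc⟩ := hv g hg
        rw [hc]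
        exact S.smul_mem _ hvS
      · obtain ⟨s, hs, hsx⟩ := D.bruhat g hg
        obtain ⟨c, hc⟩ := hv _ hsx
        have h1 : g = (s * w) * ((s * w)⁻¹ * g) := by group
        rw [h1, map_mul, Module.End.mul_apply, hc, map_smul]
        exact S.smul_mem _ (hbS ⟨s, hs⟩)
    have h2 : Submodule.span ℂ (Set.range fun g : G => ρ g v) = ⊤ := by
      apply eq_top_of_stable ρ
      · intro g u hu
        induction hu using Submodule.span_induction with
        | mem x hx =>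
          obtain ⟨q, rfl⟩ := hx
          refine Submodule.subset_span ⟨g * q, ?_⟩
          simp only [map_mul, Module.End.mul_apply]
        | zero => rw [map_zero]; exact Submodule.zero_mem _
        | add x y _ _ hx hy => rw [map_add]; exact Submodule.add_mem _ hx hy
        | smul a x _ hx => rw [map_smul]; exact Submodule.smul_mem _ _ hx
      · intro h
        have h1 : v ∈ Submodule.span ℂ (Set.range fun g : G => ρ g v) :=
          Submodule.subset_span ⟨1, by simp⟩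
        rw [h, Submodule.mem_bot] at h1
        exact hv0 h1
    rw [eq_top_iff, ← h2, Submodule.span_le]
    rintro _ ⟨g, rfl⟩
    exact key g
  obtain ⟨c, hc⟩ := hm (ρ w v)
  have hsum : ∑ s : U, b s = c • v := by
    rw [← hc]
    unfold Z
    rw [LinearMap.sum_apply]
    refine Finset.sum_congr rfl fun s _ => ?_
    rw [← Module.End.mul_apply, ← map_mul]
  rw [Nat.card_eq_fintype_card]
  by_cases hc0 : c = 0
  · -- replace `b 1` by `v`
    let b' : U → V := fun s => if s = 1 then v else b s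
    have h1 : Submodule.span ℂ (Set.range b') = ⊤ := by
      have hv' : v ∈ Submodule.span ℂ (Set.range b') := Submodule.subset_span ⟨1, by simp [b']⟩
      have hb' : ∀ s, s ≠ 1 → b s ∈ Submodule.span ℂ (Set.range b') := fun s hs =>
        Submodule.subset_span ⟨s, by simp [b', hs]⟩
      refine hspan _ hv' fun s => ?_
      by_cases hs : s = 1
      · subst hs
        rw [hc0, zero_smul, ← Finset.add_sum_erase Finset.univ b (Finset.mem_univ 1)] at hsum
        rw [eq_neg_of_add_eq_zero_left hsum]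
        exact Submodule.neg_mem _ (Submodule.sum_mem _ fun s hs => hb' s (Finset.ne_of_mem_erase hs))
      · exact hb' s hs
    rw [← finrank_top ℂ V, ← h1]
    exact finrank_range_le_card b'
  · have h1 : Submodule.span ℂ (Set.range b) = ⊤ := by
      have hb' : ∀ s, b s ∈ Submodule.span ℂ (Set.range b) := fun s => Submodule.subset_span ⟨s, rfl⟩
      refine hspan _ ?_ hb'
      have h2 : v = c⁻¹ • ∑ s : U, b s := by
        rw [hsum, smul_smul, inv_mul_cancel₀ hc0, one_smul]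
      rw [h2]
      exact Submodule.smul_mem _ _ (Submodule.sum_mem _ fun s _ => hb' s)
    rw [← finrank_top ℂ V, ← h1]
    exact finrank_range_le_card b

/-- The degree of an irreducible representation whose fixed space under `U` has dimension `m ≥ 1` is at most `|U| m`
(and less if `m ≥ 2` and `|U| ≥ 2`). -/
theorem finrank_le_mul [FiniteDimensional ℂ V] [Finite G] [ρ.IsIrreducible] {H U : Subgroup G} {w : G} (D : Data H U w) [Fintype U]
    (hab : ∀ h ∈ H, ∀ k ∈ H, ∃ u ∈ U, h * k = k * h * u) {m : ℕ}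
    (hm : ∑ u : U, ρ.character u = (Nat.card U : ℂ) * m) (hm0 : m ≠ 0) (hU : 2 ≤ Nat.card U) :
    finrank ℂ V ≤ Nat.card U * m ∧ (2 ≤ m → finrank ℂ V < Nat.card U * m) := by
  classical
  have hcU : (Nat.card U : ℂ) ≠ 0 := card_ne_zero_complex
  have htr : LinearMap.trace ℂ V (Z ρ U) = (Nat.card U : ℂ) * m := by
    rw [← hm, Z, map_sum]
    rfl
  have hZ0 : Z ρ U ≠ 0 := by
    intro h0
    rw [h0, map_zero] at htr
    rcases mul_eq_zero.1 htr.symm with h1 | h1
    · exact hcU h1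
    · exact hm0 (by exact_mod_cast h1)
  have hle := finrank_le_index ρ H U D.norm hab hZ0
  rw [D.index] at hle
  rcases Nat.lt_or_ge m 2 with h2 | h2
  · have hm1 : m = 1 := by omega
    subst hm1
    refine ⟨?_, fun h => absurd h (by omega)⟩
    rw [mul_one]
    have hrk : finrank ℂ (LinearMap.range (Z ρ U)) = 1 := by
      set P : Module.End ℂ V := (Nat.card U : ℂ)⁻¹ • Z ρ U with hP
      have h1 : P * P = P := by
        rw [hP, smul_mul_smul_comm, Z_mul_Z, smul_smul]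
        congr 1
        field_simp
      have h3 : IsIdempotentElem P := h1
      have h4 := LinearMap.IsProj.trace (LinearMap.IsIdempotentElem.isProj_range P h3)
      rw [hP, map_smul, htr, smul_eq_mul, inv_mul_cancel_left₀ hcU] at h4
      have h5 : finrank ℂ (LinearMap.range P) = 1 := by exact_mod_cast h4.symm
      rwa [hP, LinearMap.range_smul _ _ (inv_ne_zero hcU)] at h5
    obtain ⟨⟨v, hvm⟩, hv0, hv⟩ := finrank_eq_one_iff'.1 hrk
    have hv0' : v ≠ 0 := fun h => hv0 (Subtype.ext h)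
    have hv' : ∀ y, ∃ c : ℂ, Z ρ U y = c • v := by
      intro y
      obtain ⟨c, hc⟩ := hv ⟨Z ρ U y, ⟨y, rfl⟩⟩
      exact ⟨c, (congrArg Subtype.val hc).symm⟩
    refine finrank_le_card ρ D hv0' (fun h hh => ?_) hv'
    obtain ⟨w', hw'⟩ := hvm
    have h1 : ρ h v = Z ρ U (ρ h w') := by
      rw [← hw', ← Module.End.mul_apply, rho_comm_Z ρ U (x := h), Module.End.mul_apply]
      intro u
      refine ⟨fun hu => D.norm h hh u hu, fun h1 => ?_⟩
      have := D.norm h⁻¹ (H.inv_mem hh) _ h1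
      have h2 : h⁻¹ * (h * u * h⁻¹) * h⁻¹⁻¹ = u := by group
      rwa [h2] at this
    rw [h1]
    exact hv' _
  · have h3 : Nat.card U + 1 < Nat.card U * m := by nlinarith
    exact ⟨by omega, fun _ => by omega⟩

end rep

section main

variable {H U : Subgroup G} {w : G}

/-- the value of an induced linear character at central elements -/
theorem indFun_central [Fintype G] (f : H →* ℂˣ) {z : G} (hz : z ∈ H) (hzc : ∀ g, z * g = g * z) (x : G) :
    Cfsg.indFun H (fun t => (f t : ℂ)) (z * x) = f ⟨z, hz⟩ * Cfsg.indFun H (fun t => (f t : ℂ)) x := by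
  classical
  rw [Cfsg.Agent.OddOrderCharacters.Clifford.indFun_apply, Cfsg.Agent.OddOrderCharacters.Clifford.indFun_apply,
    mul_left_comm]
  congr 1
  rw [Finset.mul_sum]
  refine Finset.sum_congr rfl fun y _ => ?_
  have h1 : y⁻¹ * (z * x) * y = z * (y⁻¹ * x * y) := by
    rw [← mul_assoc y⁻¹ z x, ← hzc y⁻¹]
    simp only [mul_assoc]
  rw [h1]
  by_cases hx : y⁻¹ * x * y ∈ H
  · rw [Cfsg.Agent.OddOrderCharacters.Clifford.ext_apply_mem H _ _ hx,
      Cfsg.Agent.OddOrderCharacters.Clifford.ext_apply_mem H _ _ (H.mul_mem hz hx), ← Units.val_mul, ← map_mul]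
    rfl
  · rw [Cfsg.Agent.OddOrderCharacters.Clifford.ext_apply_not_mem H _ _ hx,
      Cfsg.Agent.OddOrderCharacters.Clifford.ext_apply_not_mem H _ _ (fun h => hx ?_), mul_zero]
    have := H.mul_mem (H.inv_mem hz) h
    rwa [inv_mul_cancel_left] at this

/-- **Cuspidal characters with a prescribed central character.** -/
theorem exists_cuspidal_central [Finite G] (D : Data H U w) [Fintype U] (hU : 2 ≤ Nat.card U)
    (hab : ∀ h ∈ H, ∀ k ∈ H, ∃ u ∈ U, h * k = k * h * u) (f : H →* ℂˣ) (Z : Subgroup G) (hZH : Z ≤ H)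
    (hZ : ∀ z ∈ Z, ∀ g, z * g = g * z) :
    ∃ χ : IrrCharacter G, ∑ u : U, (χ : G → ℂ) u = 0 ∧
      ∀ z (hz : z ∈ Z), (χ : G → ℂ) z = f ⟨z, hZH hz⟩ * (χ : G → ℂ) 1 := by
  classical
  have := Fintype.ofFinite G
  have := Fintype.ofFinite Z
  have := finite_irr (G := G)
  have := Fintype.ofFinite (IrrCharacter G)
  let fZ : Z →* ℂˣ := f.comp (Subgroup.inclusion hZH)
  by_contra hcon
  push Not at hcon
  have hcU : (Nat.card U : ℂ) ≠ 0 := card_ne_zero_complex
  -- the characters with central character `f`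
  let S : Finset (IrrCharacter G) := Finset.univ.filter fun χ => ∀ z : Z, (χ : G → ℂ) z = fZ z * (χ : G → ℂ) 1
  have hS : ∀ χ, χ ∈ S ↔ ∀ z : Z, (χ : G → ℂ) z = fZ z * (χ : G → ℂ) 1 := fun χ => by
    simp [S]
  choose m hm using fun χ : IrrCharacter G => exists_mult U χ.2
  have hm1 : ∀ χ ∈ S, m χ ≠ 0 := by
    intro χ hχ h0
    obtain ⟨z, hz, hne⟩ := hcon χ (by rw [hm χ, h0, Nat.cast_zero, mul_zero])
    exact hne ((hS χ).1 hχ ⟨z, hz⟩)
  set d : IrrCharacter G → ℕ := fun χ => charDegree (χ : G → ℂ) with hd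
  have hd1 : ∀ χ : IrrCharacter G, (χ : G → ℂ) 1 = (d χ : ℂ) := fun χ =>
    Cfsg.Agent.Blocks.Basic.irr_one_eq_charDegree χ.2
  have hd0 : ∀ χ : IrrCharacter G, 0 < d χ := fun χ => Cfsg.Agent.Blocks.Basic.charDegree_pos χ.2
  have hle : ∀ χ ∈ S, d χ ≤ Nat.card U * m χ ∧ (2 ≤ m χ → d χ < Nat.card U * m χ) := by
    intro χ hχ
    obtain ⟨n, ρ, hρ, h⟩ := χ.2
    have h2 : (d χ : ℂ) = (finrank ℂ (Fin n → ℂ) : ℂ) := by
      rw [← hd1 χ, ← h, Representation.char_one]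
    have h3 : d χ = finrank ℂ (Fin n → ℂ) := by exact_mod_cast h2
    rw [h3]
    exact finrank_le_mul ρ D hab (by rw [h]; exact hm χ) (hm1 χ hχ) hU
  -- the identities
  have hE : ∀ x ∈ U, ∑ χ ∈ S, (Nat.card Z : ℂ) * (d χ : ℂ) * (χ : G → ℂ) x =
      (Nat.card G : ℂ) * Cfsg.Agent.CharDeep.PowerDegrees.delta G x := by
    intro x hx
    rw [← sum_irr_central U Z hZ (fun u hu hu' => D.inter u hu (by
      rw [mul_assoc, hZ u hu' w, inv_mul_cancel_left]
      exact D.le hu)) fZ hx]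
    rw [← Finset.sum_subset (Finset.subset_univ S)]
    · refine Finset.sum_congr rfl fun χ hχ => ?_
      rcases sum_central χ.2 Z hZ fZ with ⟨h1, -⟩ | h1
      · rw [h1, hd1]
      · exfalso
        have h2 : ∑ z : Z, (((fZ z)⁻¹ : ℂˣ) : ℂ) * (χ : G → ℂ) z = (Nat.card Z : ℂ) * (χ : G → ℂ) 1 := by
          rw [Finset.sum_congr rfl (g := fun _ => (χ : G → ℂ) 1) fun z _ => by
            rw [(hS χ).1 hχ z, ← mul_assoc, Units.inv_mul, one_mul]]
          rw [Finset.sum_const, Finset.card_univ, nsmul_eq_mul, Nat.card_eq_fintype_card]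
        rw [h1] at h2
        rcases mul_eq_zero.1 h2.symm with h3 | h3
        · exact card_ne_zero_complex h3
        · exact isIrr_apply_one_ne_zero χ.2 h3
    · intro χ _ hχ
      rcases sum_central χ.2 Z hZ fZ with ⟨-, h1⟩ | h1
      · exact absurd ((hS χ).2 h1) hχ
      · rw [h1, zero_mul]
  have hcZ : (Nat.card Z : ℂ) ≠ 0 := card_ne_zero_complex
  have e1 : ∑ χ ∈ S, d χ * d χ = ∑ χ ∈ S, d χ * (Nat.card U * m χ) := by
    have h1 := hE 1 U.one_mem
    have h2 : ∑ x : U, ∑ χ ∈ S, (Nat.card Z : ℂ) * (d χ : ℂ) * (χ : G → ℂ) x = (Nat.card G : ℂ) := by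
      rw [Finset.sum_congr rfl fun (x : U) _ => hE x x.2, Finset.sum_eq_single (1 : U)]
      · rw [OneMemClass.coe_one, Cfsg.Agent.CharDeep.PowerDegrees.delta_one, mul_one]
      · intro u _ hu
        rw [Cfsg.Agent.CharDeep.PowerDegrees.delta_ne (fun h => hu (Subtype.ext h)), mul_zero]
      · intro h
        exact absurd (Finset.mem_univ _) h
    rw [Finset.sum_comm] at h2
    rw [Cfsg.Agent.CharDeep.PowerDegrees.delta_one, mul_one, ← h2] at h1
    have h3 : (Nat.card Z : ℂ) * ((∑ χ ∈ S, d χ * d χ : ℕ) : ℂ) =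
        (Nat.card Z : ℂ) * ((∑ χ ∈ S, d χ * (Nat.card U * m χ) : ℕ) : ℂ) := by
      push_cast
      rw [Finset.mul_sum, Finset.mul_sum]
      refine Eq.trans (Finset.sum_congr rfl fun χ _ => ?_) (h1.trans (Finset.sum_congr rfl fun χ _ => ?_))
      · rw [hd1]
        ring
      · rw [← Finset.mul_sum, hm]
        ring
    exact_mod_cast mul_left_cancel₀ hcZ h3
  -- all degrees are `|U|`
  have hdU : ∀ χ ∈ S, d χ = Nat.card U := by
    have h1 : ∀ χ ∈ S, d χ * d χ ≤ d χ * (Nat.card U * m χ) := fun χ hχ => Nat.mul_le_mul_left _ (hle χ hχ).1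
    have h2 := (Finset.sum_eq_sum_iff_of_le h1).1 e1
    intro χ hχ
    have h3 : d χ = Nat.card U * m χ := Nat.eq_of_mul_eq_mul_left (hd0 χ) (h2 χ hχ)
    have h4 : m χ = 1 := by
      have h5 := hm1 χ hχ
      by_contra h6
      have := (hle χ hχ).2 (by omega)
      omega
    rw [h3, h4, mul_one]
  -- the induced character
  set Φ : G → ℂ := indFun H (fun t => (f t : ℂ)) with hΦ
  have hΦc : IsCharacter G Φ :=
    Cfsg.Agent.OddOrderCharacters.IndRes.isCharacter_indFun H (Cfsg.Agent.Characters.Linear.isCharacter_hom f)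
  have hΦ1 : Φ 1 = ((Nat.card U + 1 : ℕ) : ℂ) := by
    rw [hΦ, Cfsg.Agent.OddOrderCharacters.IndRes.indFun_apply_one, map_one, Units.val_one, mul_one, D.index]
  have hΦS : ∀ χ : IrrCharacter G, χ ∉ S → classInner Φ (χ : G → ℂ) = 0 := by
    intro χ hχ
    rw [hS] at hχ
    push Not at hχ
    obtain ⟨z, hz⟩ := hχ
    exact classInner_eq_zero χ.2 Z hZ fZ (fun z x => indFun_central f (hZH z.2) (hZ z z.2) x) hz
  have h1 := congrFun (classFunction_eq_sum (isCharacter_isClassFunction hΦc)) 1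
  rw [Finset.sum_apply, hΦ1, ← Finset.sum_subset (Finset.subset_univ S) (fun χ _ hχ => by
    rw [Pi.smul_apply, hΦS χ hχ, zero_smul])] at h1
  choose k hk using fun χ : IrrCharacter G => classInner_isNat hΦc (isIrr_isCharacter χ.2)
  have h2 : Nat.card U + 1 = ∑ χ ∈ S, k χ * Nat.card U := by
    have h3 : ((Nat.card U + 1 : ℕ) : ℂ) = ((∑ χ ∈ S, k χ * Nat.card U : ℕ) : ℂ) := by
      rw [h1]
      push_cast
      refine Finset.sum_congr rfl fun χ hχ => ?_
      rw [Pi.smul_apply, hk, hd1, hdU χ hχ, smul_eq_mul]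
    exact_mod_cast h3
  rw [← Finset.sum_mul] at h2
  have h3 : Nat.card U ∣ 1 := by
    have h4 : Nat.card U ∣ Nat.card U + 1 := by
      rw [h2]
      exact Dvd.intro_left _ rfl
    exact (Nat.dvd_add_right (dvd_refl _)).1 h4
  have := Nat.le_of_dvd one_pos h3
  omega

end main

end Cfsg.Agent.H115.HC.CuspCentral
end

-- part: H115/HC/RgdCusp
section
prune_inst 0x800000000000008000000
set_option linter.all false
open scoped Cfsg.Agent.FastGrp

/-!
# Cuspidal characters of the rank one Levi subgroups and their Harish-Chandra induction (helper115, TEAM DEG)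

`R : RGD cs h p T n X` a root group datum of a finite group, `T` abelian, `i` a node, `L = LJ {i} = ⟨T, X_{α_i}, X_{-α_i}⟩`,
`P = PJ {i}` the parabolic subgroup.

* `exists_psi` : for each `f : T → ℂˣ` there is a cuspidal irreducible character of `L` with central character `f` on
  `CT i`, the subgroup of `T` centralising `X_{±α_i}`;
* `exists_chi` : if for every `w ∉ W_{i}` with `w α_i = α_i` some `z ∈ CT i` has `f (g⁻¹ z g) ≠ f z` (`g` over `w`), the
  cuspidal character induces to an irreducible character: its degree is divisible by `|G : P|` and by all primes `ℓ`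
  such that some element of order `ℓ` of `T` acts fixed point freely on `X_{α_i}`.
-/

set_option autoImplicit false

open scoped ComplexConjugate
open Cfsg

namespace Cfsg.Agent.H115.HC

open CoxeterSystem Cfsg.Agent.ChevalleyStructure.CoxeterGeom Cfsg.Agent.Tits.Roots Cfsg.Agent.Tits.Core
  Cfsg.Agent.Tits.Exchange Cfsg.Agent.Nodes.Reps Cfsg.Agent.Nodes.BNOf Cfsg.Agent.Nodes.StabComb
  Cfsg.Agent.Nodes.Bruhat Cfsg.Agent.Nodes.OppDec Cfsg.Agent.Nodes.LeviDec Cfsg.Agent.H53.HC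
  Cfsg.Agent.LieRecognition.RankOneAbstract Cfsg.Agent.Characters

variable {I W Y : Type*} [Fintype I] [DecidableEq I] [Group W] [Group Y] {M : CoxeterMatrix I}
  {cs : CoxeterSystem M W} {A : I → I → ℤ} {h : IsCartan M A} {p : ℕ} {T : Subgroup Y} {n : I → Y}
  {X : (I → ℤ) → Subgroup Y}

theorem PosJ_single (i : I) : PosJ cs h {i} = {sr i} := by
  ext x
  constructor
  · rintro ⟨hx, h0, hJ⟩
    exact hx.eq_sr h0 i fun k hk => hJ k hk
  · rintro rfl
    exact sr_mem_PosJ (Set.mem_singleton i)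

theorem UJ_single (i : I) : UJ cs h X {i} = X (sr i) := by
  unfold UJ
  rw [PosJ_single]
  apply le_antisymm
  · refine RGD.Sup_le fun z hz => ?_
    rw [Set.mem_singleton_iff.1 hz]
  · exact RGD.le_Sup (Set.mem_singleton _)

omit [Fintype I] [DecidableEq I] in
theorem mem_WJ_single (cs : CoxeterSystem M W) {i : I} {w : W} (hw : w ∈ WJ cs {i}) : w = 1 ∨ w = cs.simple i := by
  have h1 : WJ cs {i} = Subgroup.zpowers (cs.simple i) := by
    unfold WJ
    rw [Set.image_singleton, Subgroup.zpowers_eq_closure]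
  rw [h1] at hw
  obtain ⟨k, rfl⟩ := hw
  rcases Int.even_or_odd k with ⟨m, rfl⟩ | ⟨m, rfl⟩
  · left
    dsimp only
    rw [zpow_add, ← (Commute.refl (cs.simple i)).mul_zpow, cs.simple_mul_simple_self, one_zpow]
  · right
    dsimp only
    rw [zpow_add, zpow_one, two_mul, zpow_add, ← (Commute.refl (cs.simple i)).mul_zpow, cs.simple_mul_simple_self,
      one_zpow, one_mul]

theorem X_le_LJ_single (i : I) : X (sr i) ≤ LJ cs h T X {i} :=
  X_le_LJ (PosJ_subset _ (sr_mem_PosJ (Set.mem_singleton i)))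

theorem T_le_PJ (J : Set I) : T ≤ PJ cs h T X J := le_trans T_le_LJ LJ_le_PJ

variable (R : RGD cs h p T n X)

include R

theorem mem_BJ_single {i : I} {x : Y} (hx : x ∈ BJ cs h T X {i}) : ∃ u ∈ X (sr i), ∃ t ∈ T, x = u * t := by
  obtain ⟨v, hv, u, hu, t, ht, e⟩ := mem_BJ' R (Set.mem_singleton i) hx
  have h1 : PosJ cs h {i} \ {sr i} = ∅ := by
    rw [PosJ_single, Set.sdiff_self]
  rw [h1, Sup_empty, Subgroup.mem_bot] at hv
  exact ⟨u, hu, t, ht, by rw [e, hv, one_mul]⟩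

theorem conj_mem_X {i : I} {b u : Y} (hb : b ∈ BJ cs h T X {i}) (hu : u ∈ X (sr i)) : b * u * b⁻¹ ∈ X (sr i) := by
  obtain ⟨v, hv, t, ht, rfl⟩ := mem_BJ_single R hb
  have h1 : t * u * t⁻¹ ∈ X (sr i) := by
    have := conj_mem_cj (g := t) |>.2 hu
    rwa [R.tor _ (isRoot_sr cs h i) t ht] at this
  have e : v * t * u * (v * t)⁻¹ = v * (t * u * t⁻¹) * v⁻¹ := by group
  rw [e]
  exact mul_mem (mul_mem hv h1) (inv_mem hv)

/-- the rank one datum of the Levi subgroup -/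
theorem data [Finite W] (i : I) : Data ((BJ cs h T X {i}).subgroupOf (LJ cs h T X {i}))
    ((X (sr i)).subgroupOf (LJ cs h T X {i})) ⟨n i, n_mem_LJ R (Set.mem_singleton i)⟩ where
  w_not_mem hw := by
    rw [Subgroup.mem_subgroupOf] at hw
    have h5 := R.eq_one_of_mem_B (rp_simple cs R.nsys i) (BJ_le_B _ hw)
    have h6 := cs.length_simple i
    rw [h5, cs.length_one] at h6
    exact absurd h6 (by decide)
  le := by
    intro x hx
    rw [Subgroup.mem_subgroupOf] at hx ⊢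
    exact X_le_BJ (sr_mem_PosJ (Set.mem_singleton i)) hx
  norm := by
    intro x hx s hs
    rw [Subgroup.mem_subgroupOf] at hx hs ⊢
    exact conj_mem_X R hx hs
  bruhat := by
    rintro ⟨g, hg⟩ hgB
    rw [Subgroup.mem_subgroupOf] at hgB
    obtain ⟨w, hw, hc⟩ := exists_cellJ R hg
    rcases mem_WJ_single cs hw with rfl | rfl
    · exact absurd hc.mem_of_one hgB
    · obtain ⟨b₁, hb₁, k, hk, b₂, hb₂, e⟩ := hc
      obtain ⟨u, hu, t, ht, rfl⟩ := mem_BJ_single R hb₁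
      refine ⟨⟨u, X_le_LJ_single i hu⟩, hu, ?_⟩
      rw [Subgroup.mem_subgroupOf]
      change (u * n i)⁻¹ * g ∈ _
      have h1 : (u * n i)⁻¹ * g = ((n i)⁻¹ * t * n i) * ((n i)⁻¹ * k) * b₂ := by
        rw [e]
        group
      rw [h1]
      have h2 : (n i)⁻¹ * t * n i ∈ T := by
        have h1 := (mem_normalizer_iff_cj.1 (rp_simple cs R.nsys i).inv.mem_normalizer)
        have h2 : (n i)⁻¹ * t * (n i)⁻¹⁻¹ ∈ cj (n i)⁻¹ T := conj_mem_cj.2 ht
        rwa [h1, inv_inv] at h2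
      exact mul_mem (mul_mem (T_le_BJ h2) (T_le_BJ ((rp_simple cs R.nsys i).unique hk))) hb₂
  inter := by
    rintro ⟨s, hs⟩ hsX hsB
    rw [Subgroup.mem_subgroupOf] at hsX hsB
    apply Subtype.ext
    have hk : Rp cs R.nsys (cs.simple i) (n i)⁻¹ := by
      have := (rp_simple cs R.nsys i).inv
      rwa [inv_simple] at this
    refine eq_one_of_conj_mem_B R hsX hk ?_
    rw [inv_inv]
    exact BJ_le_B _ hsB

/-- the subgroup of `T` centralising the root groups of `±α_i` -/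
def CT (T : Subgroup Y) (X : (I → ℤ) → Subgroup Y) (i : I) : Subgroup Y :=
  T ⊓ Subgroup.centralizer ((X (sr i) : Set Y) ∪ X (-sr i))

omit [Fintype I] R in
theorem CT_le {i : I} : CT T X i ≤ T := inf_le_left

omit [Fintype I] R in
theorem mem_CT {i : I} {z : Y} :
    z ∈ CT T X i ↔ z ∈ T ∧ (∀ u ∈ X (sr i), z * u = u * z) ∧ ∀ u ∈ X (-sr i), z * u = u * z := by
  unfold CT
  rw [Subgroup.mem_inf, Subgroup.mem_centralizer_iff]
  refine and_congr_right fun _ => ⟨fun hz => ⟨fun u hu => (hz u (Or.inl hu)).symm, fun u hu => (hz u (Or.inr hu)).symm⟩, ?_⟩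
  rintro ⟨h1, h2⟩ u (hu | hu)
  · exact (h1 u hu).symm
  · exact (h2 u hu).symm

omit R in
theorem LJ_empty : LJ cs h T X ∅ = T := by
  unfold LJ
  have h1 : RootsJ cs h (∅ : Set I) = ∅ := by
    ext x
    simp only [Set.mem_empty_iff_false, iff_false]
    rintro ⟨hx, h0⟩
    exact hx.ne_zero (funext fun k => h0 k (Set.notMem_empty k))
  rw [h1, Sup_empty, sup_bot_eq]

/-- linear characters of `T` as linear characters of the Borel subgroup of `LJ {i}` -/
theorem exists_ext [Finite W] (i : I) (f : T →* ℂˣ) :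
    ∃ F : ↥((BJ cs h T X {i}).subgroupOf (LJ cs h T X {i})) →* ℂˣ,
      ∀ (t : Y) (ht : t ∈ T), F ⟨⟨t, T_le_LJ ht⟩, T_le_BJ ht⟩ = f ⟨t, ht⟩ := by
  obtain ⟨π, h1, h2⟩ := exists_projL R (∅ : Set I)
  have hLT : LJ cs h T X ∅ ≤ T := le_of_eq LJ_empty
  let ι : ↥((BJ cs h T X {i}).subgroupOf (LJ cs h T X {i})) →* ↥(PJ cs h T X ∅) :=
    { toFun := fun x => ⟨(x : LJ cs h T X {i}), B_le_PJ (BJ_le_B _ x.2)⟩
      map_one' := rfl
      map_mul' := fun _ _ => rfl }
  refine ⟨f.comp ((Subgroup.inclusion hLT).comp (π.comp ι)), fun t ht => ?_⟩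
  change f (Subgroup.inclusion hLT (π ⟨t, _⟩)) = _
  rw [h1 t (T_le_LJ ht)]
  rfl

/-- **Cuspidal characters of the rank one Levi subgroups** with given central character. -/
theorem exists_psi [Finite W] [Finite Y] (hTc : ∀ a ∈ T, ∀ b ∈ T, a * b = b * a) (i : I)
    (hU : 2 ≤ Nat.card (X (sr i))) (f : T →* ℂˣ) :
    ∃ ψ : ↥(LJ cs h T X {i}) → ℂ, IsIrrCharacter _ ψ ∧
      (∀ [Fintype ((X (sr i)).subgroupOf (LJ cs h T X {i}))],
        ∑ u : (X (sr i)).subgroupOf (LJ cs h T X {i}), ψ u = 0) ∧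
      ∀ z (hz : z ∈ CT T X i), ψ ⟨z, T_le_LJ (CT_le hz)⟩ = f ⟨z, CT_le hz⟩ * ψ 1 := by
  classical
  have hf : Fintype ((X (sr i)).subgroupOf (LJ cs h T X {i})) := Fintype.ofFinite _
  have D := data R i
  obtain ⟨F, hF⟩ := exists_ext R i f
  have hcard : Nat.card ((X (sr i)).subgroupOf (LJ cs h T X {i})) = Nat.card (X (sr i)) :=
    Nat.card_congr (Subgroup.subgroupOfEquivOfLe (X_le_LJ_single i)).toEquiv
  have hab : ∀ x ∈ (BJ cs h T X {i}).subgroupOf (LJ cs h T X {i}),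
      ∀ y ∈ (BJ cs h T X {i}).subgroupOf (LJ cs h T X {i}),
      ∃ u ∈ (X (sr i)).subgroupOf (LJ cs h T X {i}), x * y = y * x * u := by
    rintro x hx y hy
    refine ⟨(y * x)⁻¹ * (x * y), ?_, by group⟩
    rw [Subgroup.mem_subgroupOf] at hx hy ⊢
    obtain ⟨u, hu, t, ht, ex⟩ := mem_BJ_single R hx
    obtain ⟨v, hv, s, hs, ey⟩ := mem_BJ_single R hy
    have hts := hTc t ht s hs
    have hT : T ≤ BJ cs h T X {i} := T_le_BJ
    have e : (y * x : LJ cs h T X {i})⁻¹ * (x * y) = (⟨(t⁻¹ * u⁻¹ * t⁻¹⁻¹) * ((s * t)⁻¹ * (v⁻¹ * u) * (s * t)⁻¹⁻¹) *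
        (s⁻¹ * v * s⁻¹⁻¹), mul_mem (mul_mem (X_le_LJ_single i (conj_mem_X R (hT (inv_mem ht)) (inv_mem hu)))
          (X_le_LJ_single i (conj_mem_X R (hT (inv_mem (mul_mem hs ht))) (mul_mem (inv_mem hv) hu))))
          (X_le_LJ_single i (conj_mem_X R (hT (inv_mem hs)) hv))⟩ : LJ cs h T X {i}) := by
      apply Subtype.ext
      change ((y : Y) * x)⁻¹ * (x * y) = _
      rw [ex, ey]
      have h1 : t⁻¹ * s⁻¹ * t * s = 1 := by
        rw [mul_assoc, hts]
        group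
      calc (v * s * (u * t))⁻¹ * (u * t * (v * s)) = (t⁻¹ * u⁻¹ * t⁻¹⁻¹) * ((s * t)⁻¹ * (v⁻¹ * u) * (s * t)⁻¹⁻¹) *
            (t⁻¹ * s⁻¹ * t * s) * (s⁻¹ * v * s⁻¹⁻¹) := by group
        _ = _ := by rw [h1, mul_one]
    rw [e]
    exact mul_mem (mul_mem (conj_mem_X R (hT (inv_mem ht)) (inv_mem hu))
      (conj_mem_X R (hT (inv_mem (mul_mem hs ht))) (mul_mem (inv_mem hv) hu))) (conj_mem_X R (hT (inv_mem hs)) hv)
  obtain ⟨χ, hχ, hχz⟩ := CuspCentral.exists_cuspidal_central D (by rw [hcard]; exact hU) hab F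
    ((CT T X i).subgroupOf (LJ cs h T X {i}))
    (by
      intro z hz
      rw [Subgroup.mem_subgroupOf] at hz ⊢
      exact T_le_BJ (CT_le hz))
    (by
      rintro ⟨z, hzL⟩ hz ⟨g, hg⟩
      rw [Subgroup.mem_subgroupOf] at hz
      obtain ⟨hzT, hz1, hz2⟩ := mem_CT.1 hz
      apply Subtype.ext
      change z * g = g * z
      have h1 : LJ cs h T X {i} ≤ Subgroup.centralizer {z} := by
        refine sup_le ?_ (RGD.Sup_le fun x hx => ?_)
        · intro t ht
          rw [Subgroup.mem_centralizer_singleton_iff]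
          exact (hTc z hzT t ht).symm
        · rcases hx.1.pos_or_neg with h0 | h0
          · have h2 : x = sr i := by
              have : x ∈ PosJ cs h {i} := ⟨hx.1, h0, hx.2⟩
              rw [PosJ_single] at this
              exact this
            intro u hu
            rw [h2] at hu
            rw [Subgroup.mem_centralizer_singleton_iff]
            exact (hz1 u hu).symm
          · have h2 : x = -sr i := by
              have : -x ∈ PosJ cs h {i} := ⟨hx.1.neg, neg_nonneg.2 h0, fun k hk => by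
                rw [Pi.neg_apply, hx.2 k hk, neg_zero]⟩
              rw [PosJ_single] at this
              rw [← Set.mem_singleton_iff.1 this, neg_neg]
            intro u hu
            rw [h2] at hu
            rw [Subgroup.mem_centralizer_singleton_iff]
            exact (hz2 u hu).symm
      exact (Subgroup.mem_centralizer_singleton_iff.1 (h1 hg)).symm)
  refine ⟨χ, χ.2, fun {hf'} => ?_, fun z hz => ?_⟩
  · convert hχ
  · rw [← hF z (CT_le hz)]
    exact hχz ⟨z, T_le_LJ (CT_le hz)⟩ hz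

/-- representatives of elements fixing `α_i` normalise `CT i` -/
theorem conj_mem_CT {i : I} {w : W} {g : Y} (hg : Rp cs R.nsys w g) (hw : rep cs h w (sr i) = sr i) {z : Y}
    (hz : z ∈ CT T X i) : g⁻¹ * z * g ∈ CT T X i := by
  obtain ⟨hzT, h1, h2⟩ := mem_CT.1 hz
  have hX : ∀ u ∈ X (sr i), g * u * g⁻¹ ∈ X (sr i) := by
    intro u hu
    have := R.conj_mem hg (isRoot_sr cs h i) hu
    rwa [hw] at this
  have hX' : ∀ u ∈ X (-sr i), g * u * g⁻¹ ∈ X (-sr i) := by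
    intro u hu
    have := R.conj_mem hg (isRoot_sr cs h i).neg hu
    rwa [map_neg, hw] at this
  refine mem_CT.2 ⟨?_, fun u hu => ?_, fun u hu => ?_⟩
  · have h1 := (mem_normalizer_iff_cj.1 hg.inv.mem_normalizer)
    have h2 : g⁻¹ * z * g⁻¹⁻¹ ∈ cj g⁻¹ T := conj_mem_cj.2 hzT
    rwa [h1, inv_inv] at h2
  · have h3 := h1 _ (hX u hu)
    calc g⁻¹ * z * g * u = g⁻¹ * (z * (g * u * g⁻¹)) * g := by group
      _ = g⁻¹ * (g * u * g⁻¹ * z) * g := by rw [h3]
      _ = u * (g⁻¹ * z * g) := by group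
  · have h3 := h2 _ (hX' u hu)
    calc g⁻¹ * z * g * u = g⁻¹ * (z * (g * u * g⁻¹)) * g := by group
      _ = g⁻¹ * (g * u * g⁻¹ * z) * g := by rw [h3]
      _ = u * (g⁻¹ * z * g) := by group

omit R in
theorem rad_single (i : I) : rad cs h X {i} i = X (sr i) := by
  unfold rad PosRad
  have h1 : {x | x ∈ PosJ cs h {i} ∧ 0 < x i} = ({sr i} : Set (I → ℤ)) := by
    rw [PosJ_single]
    ext x
    simp only [Set.mem_singleton_iff, Set.mem_ofPred_eq, and_iff_left_iff_imp]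
    rintro rfl
    rw [sr_self]
    exact one_pos
  rw [h1]
  apply le_antisymm
  · refine RGD.Sup_le fun z hz => ?_
    rw [Set.mem_singleton_iff.1 hz]
  · exact RGD.le_Sup (Set.mem_singleton _)

omit R in
theorem sum_conj_hom {Z : Subgroup Y} [Fintype Z] (f g : Z →* ℂˣ) (hfg : ∃ z, f z ≠ g z) :
    ∑ z : Z, (f z : ℂ) * conj (g z : ℂ) = 0 := by
  classical
  obtain ⟨a, ha⟩ := hfg
  have h1 : ∀ z, (f z : ℂ) * conj (g z : ℂ) = ((f * g⁻¹ : Z →* ℂˣ) z : ℂ) := by
    intro z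
    have h2 := Cfsg.Agent.CharactersDeep.MackeyLinear.mul_conj_hom g z
    have h3 : (g z : ℂ) ≠ 0 := Units.ne_zero _
    rw [MonoidHom.mul_apply, MonoidHom.inv_apply, Units.val_mul, Units.val_inv_eq_inv_val]
    congr 1
    exact eq_inv_of_mul_eq_one_right h2
  rw [Finset.sum_congr rfl fun z _ => h1 z]
  have h2 : (f * g⁻¹ : Z →* ℂˣ) ≠ 1 := by
    intro h3
    apply ha
    have := DFunLike.congr_fun h3 a
    rw [MonoidHom.mul_apply, MonoidHom.inv_apply, MonoidHom.one_apply, mul_inv_eq_one] at this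
    exact this
  have h3 : ∃ b, ((f * g⁻¹ : Z →* ℂˣ) b : ℂ) ≠ 1 := by
    by_contra hcon
    push Not at hcon
    exact h2 (MonoidHom.ext fun b => Units.ext (hcon b))
  obtain ⟨b, hb⟩ := h3
  have h4 : ∑ z : Z, ((f * g⁻¹ : Z →* ℂˣ) z : ℂ) = ((f * g⁻¹ : Z →* ℂˣ) b : ℂ) * ∑ z : Z, ((f * g⁻¹ : Z →* ℂˣ) z : ℂ) := by
    conv_lhs => rw [← Equiv.sum_comp (Equiv.mulLeft b)]
    rw [Finset.mul_sum]
    refine Finset.sum_congr rfl fun z _ => ?_
    rw [Equiv.coe_mulLeft, map_mul, Units.val_mul]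
  have h5 : (((f * g⁻¹ : Z →* ℂˣ) b : ℂ) - 1) * ∑ z : Z, ((f * g⁻¹ : Z →* ℂˣ) z : ℂ) = 0 := by
    rw [sub_mul, ← h4, one_mul, sub_self]
  rcases mul_eq_zero.1 h5 with h6 | h6
  · exact absurd (sub_eq_zero.1 h6) hb
  · exact h6

/-- **Harish-Chandra induction from a rank one Levi subgroup**, with an orthogonality hypothesis. -/
theorem exists_chi_of_psi [Finite W] [Fintype Y] (hG : GG cs h T X = ⊤) (i : I)
    {ψ : ↥(LJ cs h T X {i}) → ℂ} (hψ : IsIrrCharacter _ ψ)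
    (hc : ∀ [Fintype ((X (sr i)).subgroupOf (LJ cs h T X {i}))],
        ∑ u : (X (sr i)).subgroupOf (LJ cs h T X {i}), ψ u = 0)
    (hs : ∀ w g, Rp cs R.nsys w g → w ∉ WJ cs {i} → rep cs h w (sr i) = sr i →
      ∃ (L : Subgroup Y) (hL : L ≤ LJ cs h T X {i}) (hL' : ∀ l ∈ L, g⁻¹ * l * g ∈ LJ cs h T X {i}),
        ∀ [Fintype L], ∑ l : L, ψ ⟨l, hL l.2⟩ * conj (ψ ⟨g⁻¹ * l * g, hL' l l.2⟩) = 0) :
    ∃ χ : Y → ℂ, IsIrrCharacter Y χ ∧ χ 1 = (PJ cs h T X {i}).index * ψ 1 := by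
  classical
  obtain ⟨ψ', hψ', hψL, hψV⟩ := exists_infl R {i} hψ
  refine ⟨indFun (PJ cs h T X {i}) ψ', ?_, ?_⟩
  · refine isIrr_indFun_rgd R hG {i} hψ' hψV ?_ ?_
    · intro k hk hf
      obtain rfl : k = i := hk
      have hf' : Fintype ((X (sr k)).subgroupOf (LJ cs h T X {k})) := Fintype.ofFinite _
      rw [← hc]
      refine Fintype.sum_equiv ((MulEquiv.subgroupCongr (rad_single k)).trans
        (Subgroup.subgroupOfEquivOfLe (X_le_LJ_single (T := T) k)).symm).toEquiv _ _ fun u => ?_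
      rw [← hψL]
      rfl
    · intro w g hg hw hp
      have hwi : rep cs h w (sr i) = sr i := by
        obtain ⟨k, hk, e⟩ := hp.2 i (Set.mem_singleton i)
        rw [e, Set.mem_singleton_iff.1 hk]
      obtain ⟨L, hL, hL', hsum⟩ := hs w g hg hw hwi
      refine ⟨L, le_trans hL LJ_le_PJ, fun l hl => LJ_le_PJ (hL' l hl), ?_⟩
      intro hf
      rw [← hsum]
      refine Finset.sum_congr rfl fun l _ => ?_
      rw [hψL _ (hL l.2), hψL _ (hL' l l.2)]
  · rw [indFun_one]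
    congr 1
    exact hψL 1 (one_mem _)

/-- the primes dividing the degree of a cuspidal character of the rank one Levi subgroup -/
theorem dvd_of_regular [Finite W] [Finite Y] {i : I} {ψ : ↥(LJ cs h T X {i}) → ℂ} (hψ : IsIrrCharacter _ ψ)
    (hc : ∀ [Fintype ((X (sr i)).subgroupOf (LJ cs h T X {i}))],
        ∑ u : (X (sr i)).subgroupOf (LJ cs h T X {i}), ψ u = 0)
    {x : Y} (hx : x ∈ T) {ℓ : ℕ} (hℓ : ℓ.Prime) (hxo : orderOf x = ℓ)
    (hreg : ∀ u ∈ X (sr i), x * u = u * x → u = 1) : ∃ m : ℕ, ψ 1 = ℓ * m := by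
  classical
  have hf : Fintype ((X (sr i)).subgroupOf (LJ cs h T X {i})) := Fintype.ofFinite _
  have D := data R i
  have hxL : x ∈ LJ cs h T X {i} := T_le_LJ hx
  have hzero : ∀ y : LJ cs h T X {i}, y ∈ Subgroup.zpowers (⟨x, hxL⟩ : LJ cs h T X {i}) → y ≠ 1 → ψ y = 0 := by
    intro y hy hy1
    obtain ⟨k, ρ, hρ, h1⟩ := hψ
    have hyB : y ∈ (BJ cs h T X {i}).subgroupOf (LJ cs h T X {i}) := by
      have h2 : Subgroup.zpowers (⟨x, hxL⟩ : LJ cs h T X {i}) ≤ (BJ cs h T X {i}).subgroupOf (LJ cs h T X {i}) := by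
        rw [Subgroup.zpowers_le, Subgroup.mem_subgroupOf]
        exact T_le_BJ hx
      exact h2 hy
    rw [← h1]
    refine Cfsg.Agent.H710.Cuspidal.zero_of_regular ρ ((X (sr i)).subgroupOf (LJ cs h T X {i})) (by rw [h1]; exact hc)
      (fun u => ⟨fun hu => D.norm y hyB u hu, fun hu => ?_⟩) ?_
    · have := D.norm y⁻¹ (Subgroup.inv_mem _ hyB) _ hu
      have h2 : y⁻¹ * (y * u * y⁻¹) * y⁻¹⁻¹ = u := by group
      rwa [h2] at this
    · intro u hu hyu
      apply Subtype.ext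
      refine hreg u hu ?_
      -- `x` is a power of `y`
      have h3 : (⟨x, hxL⟩ : LJ cs h T X {i}) ∈ Subgroup.zpowers y := by
        have h4 : (Nat.card (Subgroup.zpowers (⟨x, hxL⟩ : LJ cs h T X {i}))).Prime := by
          rw [Nat.card_zpowers, Subgroup.orderOf_mk, hxo]
          exact hℓ
        have := Fact.mk h4
        have h5 := Subgroup.eq_bot_or_eq_top_of_prime_card
          ((Subgroup.zpowers y).subgroupOf (Subgroup.zpowers (⟨x, hxL⟩ : LJ cs h T X {i})))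
        rcases h5 with h5 | h5
        · exfalso
          apply hy1
          have h6 : (⟨y, hy⟩ : Subgroup.zpowers (⟨x, hxL⟩ : LJ cs h T X {i})) ∈
            (Subgroup.zpowers y).subgroupOf (Subgroup.zpowers (⟨x, hxL⟩ : LJ cs h T X {i})) := by
            rw [Subgroup.mem_subgroupOf]
            exact Subgroup.mem_zpowers y
          rw [h5, Subgroup.mem_bot] at h6
          exact congrArg Subtype.val h6
        · have h6 : (⟨⟨x, hxL⟩, Subgroup.mem_zpowers _⟩ : Subgroup.zpowers (⟨x, hxL⟩ : LJ cs h T X {i})) ∈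
            (Subgroup.zpowers y).subgroupOf (Subgroup.zpowers (⟨x, hxL⟩ : LJ cs h T X {i})) := by
            rw [h5]
            exact Subgroup.mem_top _
          rw [Subgroup.mem_subgroupOf] at h6
          exact h6
      obtain ⟨k, hk⟩ := h3
      have h4 : Commute y u := hyu
      have h5 : Commute (⟨x, hxL⟩ : LJ cs h T X {i}) u := by
        rw [← hk]
        exact h4.zpow_left k
      exact congrArg Subtype.val h5.eq
  have hf2 : Fintype (Subgroup.zpowers (⟨x, hxL⟩ : LJ cs h T X {i})) := Fintype.ofFinite _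
  obtain ⟨m, hm⟩ := Cfsg.Agent.H710.Cuspidal.exists_mult (Subgroup.zpowers (⟨x, hxL⟩ : LJ cs h T X {i})) hψ
  refine ⟨m, ?_⟩
  rw [Finset.sum_eq_single (1 : Subgroup.zpowers (⟨x, hxL⟩ : LJ cs h T X {i}))
    (fun u _ hu => hzero u u.2 fun h => hu (Subtype.ext h)) (fun h => absurd (Finset.mem_univ _) h)] at hm
  rw [OneMemClass.coe_one, Nat.card_zpowers, Subgroup.orderOf_mk, hxo] at hm
  exact hm

/-- **Harish-Chandra induction of cuspidal characters of the rank one Levi subgroup with central character in general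
position.** -/
theorem exists_chi_mul [Finite W] [Finite Y] (hG : GG cs h T X = ⊤) (hTc : ∀ a ∈ T, ∀ b ∈ T, a * b = b * a) (i : I)
    (hU : 2 ≤ Nat.card (X (sr i))) (f : T →* ℂˣ)
    (hf : ∀ w g (hg : Rp cs R.nsys w g), w ∉ WJ cs {i} → ∀ hw : rep cs h w (sr i) = sr i,
      ∃ z, ∃ hz : z ∈ CT T X i, f ⟨z, CT_le hz⟩ ≠ f ⟨g⁻¹ * z * g, CT_le (conj_mem_CT R hg hw hz)⟩) :
    ∃ (χ : IrrCharacter Y) (m : ℕ), charDegree (χ : Y → ℂ) = (PJ cs h T X {i}).index * m ∧
      ∀ ℓ : ℕ, ℓ.Prime → (∃ x ∈ T, orderOf x = ℓ ∧ ∀ u ∈ X (sr i), x * u = u * x → u = 1) → ℓ ∣ m := by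
  classical
  have := Fintype.ofFinite Y
  obtain ⟨ψ, hψ, hψc, hψz⟩ := exists_psi R hTc i hU f
  obtain ⟨χ, hχ, hχ1⟩ := exists_chi_of_psi R hG i hψ hψc (by
    intro w g hg hw hwi
    refine ⟨CT T X i, le_trans CT_le T_le_LJ, fun l hl => T_le_LJ (CT_le (conj_mem_CT R hg hwi hl)), ?_⟩
    intro hfin
    let g1 : CT T X i →* ℂˣ := f.comp (Subgroup.inclusion CT_le)
    let g2 : CT T X i →* ℂˣ := f.comp
      { toFun := fun z => ⟨g⁻¹ * z * g, CT_le (conj_mem_CT R hg hwi z.2)⟩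
        map_one' := Subtype.ext (by simp)
        map_mul' := fun a b => Subtype.ext (by
          change g⁻¹ * (a * b) * g = (g⁻¹ * a * g) * (g⁻¹ * b * g)
          group) }
    have h1 : ∀ l : CT T X i, ψ ⟨l, T_le_LJ (CT_le l.2)⟩ *
        conj (ψ ⟨g⁻¹ * l * g, T_le_LJ (CT_le (conj_mem_CT R hg hwi l.2))⟩) =
        (ψ 1 * conj (ψ 1)) * ((g1 l : ℂ) * conj (g2 l : ℂ)) := by
      intro l
      rw [hψz l l.2, hψz _ (conj_mem_CT R hg hwi l.2), map_mul]
      change (g1 l : ℂ) * ψ 1 * (conj (g2 l : ℂ) * conj (ψ 1)) = _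
      ring
    rw [Finset.sum_congr rfl fun l _ => h1 l, ← Finset.mul_sum, sum_conj_hom g1 g2, mul_zero]
    obtain ⟨z, hz, hne⟩ := hf w g hg hw hwi
    exact ⟨⟨z, hz⟩, hne⟩)
  have hd : χ 1 = (charDegree χ : ℂ) := Cfsg.Agent.Blocks.Basic.irr_one_eq_charDegree hχ
  have hd' : ψ 1 = (charDegree ψ : ℂ) := Cfsg.Agent.Blocks.Basic.irr_one_eq_charDegree hψ
  have hdd : charDegree χ = (PJ cs h T X {i}).index * charDegree ψ := by
    rw [hd, hd'] at hχ1
    exact_mod_cast hχ1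
  refine ⟨⟨χ, hχ⟩, charDegree ψ, hdd, ?_⟩
  rintro ℓ hℓ ⟨x, hx, hxo, hreg⟩
  obtain ⟨m, hm⟩ := dvd_of_regular R hψ hψc hx hℓ hxo hreg
  have h1 : charDegree ψ = ℓ * m := by
    rw [hd'] at hm
    exact_mod_cast hm
  rw [h1]
  exact Dvd.intro m rfl

/-- The two divisibilities. -/
theorem exists_chi [Finite W] [Finite Y] (hG : GG cs h T X = ⊤) (hTc : ∀ a ∈ T, ∀ b ∈ T, a * b = b * a) (i : I)
    (hU : 2 ≤ Nat.card (X (sr i))) (f : T →* ℂˣ)
    (hf : ∀ w g (hg : Rp cs R.nsys w g), w ∉ WJ cs {i} → ∀ hw : rep cs h w (sr i) = sr i,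
      ∃ z, ∃ hz : z ∈ CT T X i, f ⟨z, CT_le hz⟩ ≠ f ⟨g⁻¹ * z * g, CT_le (conj_mem_CT R hg hw hz)⟩) :
    ∃ χ : IrrCharacter Y, (PJ cs h T X {i}).index ∣ charDegree (χ : Y → ℂ) ∧
      ∀ ℓ : ℕ, ℓ.Prime → (∃ x ∈ T, orderOf x = ℓ ∧ ∀ u ∈ X (sr i), x * u = u * x → u = 1) →
        ℓ ∣ charDegree (χ : Y → ℂ) := by
  obtain ⟨χ, m, h1, h2⟩ := exists_chi_mul R hG hTc i hU f hf
  refine ⟨χ, ⟨m, h1⟩, fun ℓ hℓ hx => ?_⟩
  rw [h1]
  exact (h2 ℓ hℓ hx).mul_left _

omit R in
/-- linear characters separate the elements of `T` -/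
theorem exists_hom_ne_one [Finite Y] (hTc : ∀ a ∈ T, ∀ b ∈ T, a * b = b * a) {a : Y} (ha : a ∈ T) (ha1 : a ≠ 1) :
    ∃ f : T →* ℂˣ, f ⟨a, ha⟩ ≠ 1 := by
  let _ : CommGroup T := { (inferInstance : Group T) with
    mul_comm := fun x y => Subtype.ext (hTc x x.2 y y.2) }
  exact CommGroup.exists_apply_ne_one_of_hasEnoughRootsOfUnity T ℂ (a := ⟨a, ha⟩) fun h => ha1 (congrArg Subtype.val h)

/-- **The case of an element inverted by the relevant elements.** -/
theorem exists_chi_inv_mul [Finite W] [Finite Y] (hG : GG cs h T X = ⊤) (hTc : ∀ a ∈ T, ∀ b ∈ T, a * b = b * a) (i : I)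
    (hU : 2 ≤ Nat.card (X (sr i))) {z : Y} (hz : z ∈ CT T X i) (hz2 : z * z ≠ 1)
    (hinv : ∀ w g, Rp cs R.nsys w g → w ∉ WJ cs {i} → rep cs h w (sr i) = sr i → g⁻¹ * z * g = z⁻¹) :
    ∃ (χ : IrrCharacter Y) (m : ℕ), charDegree (χ : Y → ℂ) = (PJ cs h T X {i}).index * m ∧
      ∀ ℓ : ℕ, ℓ.Prime → (∃ x ∈ T, orderOf x = ℓ ∧ ∀ u ∈ X (sr i), x * u = u * x → u = 1) → ℓ ∣ m := by
  obtain ⟨f, hf⟩ := exists_hom_ne_one hTc (T.mul_mem (CT_le hz) (CT_le hz)) hz2
  refine exists_chi_mul R hG hTc i hU f fun w g hg hw hwi => ⟨z, hz, fun he => hf ?_⟩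
  have h1 : f ⟨z * z, T.mul_mem (CT_le hz) (CT_le hz)⟩ = f ⟨z, CT_le hz⟩ * f ⟨z, CT_le hz⟩ := by
    rw [← map_mul]
    rfl
  have h2 : f ⟨g⁻¹ * z * g, CT_le (conj_mem_CT R hg hwi hz)⟩ = (f ⟨z, CT_le hz⟩)⁻¹ := by
    rw [← map_inv]
    congr 1
    exact Subtype.ext (hinv w g hg hw hwi)
  rw [h2] at he
  rw [h1]
  exact mul_eq_one_iff_eq_inv.2 he

end Cfsg.Agent.H115.HC

private theorem dce_ea105c868c9a : _root_.True := by
  try have : _root_.True := by simp only [_root_.Cfsg.Agent.Nodes.LeviDec.PJ.congr_simp]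
  try have : _root_.True := by simp only [_root_.Cfsg.Agent.Nodes.StabComb.RootsJ.congr_simp]
  exact _root_.True.intro
end

-- part: H115/HC/RankTwo
section
prune_inst 0x80000000000000c010000
set_option linter.all false
open scoped Cfsg.Agent.FastGrp

/-!
# Root group data of type `G₂`: the big character (helper115, TEAM DEG)

`R : RGD cs h p T n X` with two nodes `0, 1`; `w ∉ W_{0}` with `w α_0 = α_0` is `v = s_1 s_0 s_1 s_0 s_1` (for type `G₂`).
If some `a ∈ T` is inverted by `n 1`, `a² ≠ 1`, and centralises `X_{±y}`, `y = s_0 s_1 α_0`, then the cuspidal characters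
of `LJ {0}` give irreducible characters of degree divisible by `|G : PJ {0}|`.
-/

set_option autoImplicit false

open scoped ComplexConjugate
open Cfsg

namespace Cfsg.Agent.H115.HC

open CoxeterSystem Cfsg.Agent.ChevalleyStructure.CoxeterGeom Cfsg.Agent.Tits.Roots Cfsg.Agent.Tits.Core
  Cfsg.Agent.Tits.Exchange Cfsg.Agent.Nodes.Reps Cfsg.Agent.Nodes.BNOf Cfsg.Agent.Nodes.StabComb
  Cfsg.Agent.Nodes.Bruhat Cfsg.Agent.Nodes.OppDec Cfsg.Agent.Nodes.LeviDec Cfsg.Agent.H53.HC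
  Cfsg.Agent.LieRecognition.RankOneAbstract Cfsg.Agent.Characters

variable {W Y : Type*} [Group W] [Group Y] {M : CoxeterMatrix (Fin 2)}
  {cs : CoxeterSystem M W} {A : Fin 2 → Fin 2 → ℤ} {h : IsCartan M A} {p : ℕ} {T : Subgroup Y} {n : Fin 2 → Y}
  {X : (Fin 2 → ℤ) → Subgroup Y}

/-- the reflection word -/
def vv (cs : CoxeterSystem M W) : W :=
  cs.simple 1 * cs.simple 0 * cs.simple 1 * (cs.simple 1 * cs.simple 0)⁻¹

theorem rep_eq_of [Finite W] {w : W} (hw : w ∉ WJ cs ({0} : Set (Fin 2))) (h0 : rep cs h w (sr 0) = sr 0) :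
    rep cs h w (sr 1) = fun k => if k = 0 then A 0 1 else -1 := by
  have hJ : ∀ i : Fin 2, i ∈ ({0} : Set (Fin 2)) ↔ i ≠ 1 := by
    intro i
    fin_cases i <;> simp
  have hp : Perm cs h ({0} : Set (Fin 2)) w := by
    refine ⟨fun i hi => ⟨0, rfl, ?_⟩, fun i hi => ⟨0, rfl, ?_⟩⟩
    · rw [Set.mem_singleton_iff.1 hi]
      nth_rw 1 [← h0]
      rw [rep_inv_apply]
    · rw [Set.mem_singleton_iff.1 hi, h0]
  have h1 := apply_eq_neg hJ hp hw (sr 1)
  rw [sr_self] at h1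
  have h2 := pairing_rep h0 (sr 1)
  rw [sr, pairing_single, mul_one] at h2
  unfold pairing at h2
  rw [Fin.sum_univ_two, h.diag, show (rep cs h w (Pi.single 1 1) : Fin 2 → ℤ) 1 = -1 from h1] at h2
  funext k
  fin_cases k
  · change rep cs h w (Pi.single 1 1) 0 = A 0 1
    linarith
  · exact h1

theorem eq_of_rep [Finite W] {v w : W} (hvw : ∀ i, rep cs h v (sr i) = rep cs h w (sr i)) : v = w := by
  have h1 : w⁻¹ * v = 1 := by
    refine eq_one_of_nonneg (cs := cs) (h := h) fun i => ?_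
    rw [rep_mul_apply, hvw, rep_inv_apply]
    exact sr_nonneg i
  exact (inv_mul_eq_one.1 h1).symm

theorem rep_zero (x : Fin 2 → ℤ) : rep cs h (cs.simple 0) x = ![-x 0 - A 0 1 * x 1, x 1] := by
  rw [rep_simple_eq]
  have h1 : pairing A 0 x = 2 * x 0 + A 0 1 * x 1 := by
    unfold pairing
    rw [Fin.sum_univ_two, h.diag]
  rw [h1]
  funext k
  fin_cases k
  · simp [sr]
    ring
  · simp [sr]

theorem rep_one (x : Fin 2 → ℤ) : rep cs h (cs.simple 1) x = ![x 0, -A 1 0 * x 0 - x 1] := by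
  rw [rep_simple_eq]
  have h1 : pairing A 1 x = A 1 0 * x 0 + 2 * x 1 := by
    unfold pairing
    rw [Fin.sum_univ_two, h.diag]
  rw [h1]
  funext k
  fin_cases k
  · simp [sr]
  · simp [sr]
    ring

theorem sr_zero_eq : (sr 0 : Fin 2 → ℤ) = ![1, 0] := by
  funext k
  fin_cases k <;> simp [sr]

theorem sr_one_eq : (sr 1 : Fin 2 → ℤ) = ![0, 1] := by
  funext k
  fin_cases k <;> simp [sr]

theorem vec_ext {a b c d : ℤ} (h1 : a = c) (h2 : b = d) : (![a, b] : Fin 2 → ℤ) = ![c, d] := by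
  rw [h1, h2]

/-- the image of a vector under `v` -/
theorem rep_vv (hA : A 0 1 * A 1 0 = 3) (x : Fin 2 → ℤ) :
    rep cs h (vv cs) x = ![x 0 + A 0 1 * x 1, -x 1] := by
  have e : vv cs = cs.simple 1 * (cs.simple 0 * (cs.simple 1 * (cs.simple 0 * cs.simple 1))) := by
    unfold vv
    rw [mul_inv_rev, cs.inv_simple, cs.inv_simple]
    simp only [mul_assoc]
  rw [e, rep_mul_apply, rep_mul_apply, rep_mul_apply, rep_mul_apply]
  simp only [rep_zero, rep_one, Matrix.cons_val_zero, Matrix.cons_val_one]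
  apply vec_ext
  · linear_combination (A 0 1 * A 1 0 * x 0 + A 0 1 * x 1) * hA
  · linear_combination (-A 1 0 * (A 0 1 * A 1 0 - 1) * x 0 - A 0 1 * A 1 0 * x 1) * hA

/-- For type `G₂` the only element outside `W_{0}` fixing `α_0` is the reflection of `s_1 s_0 α_1`. -/
theorem eq_vv [Finite W] (hA : A 0 1 * A 1 0 = 3) {w : W} (hw : w ∉ WJ cs ({0} : Set (Fin 2)))
    (h0 : rep cs h w (sr 0) = sr 0) : w = vv cs := by
  refine eq_of_rep (cs := cs) (h := h) fun i => ?_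
  have h1 := rep_eq_of hw h0
  rw [rep_vv hA]
  fin_cases i
  · change rep cs h w (sr 0) = ![(sr 0 : Fin 2 → ℤ) 0 + A 0 1 * (sr 0 : Fin 2 → ℤ) 1, -(sr 0 : Fin 2 → ℤ) 1]
    rw [h0, sr_zero_eq]
    exact vec_ext (by simp) (by simp)
  · change rep cs h w (sr 1) = ![(sr 1 : Fin 2 → ℤ) 0 + A 0 1 * (sr 1 : Fin 2 → ℤ) 1, -(sr 1 : Fin 2 → ℤ) 1]
    rw [h1, sr_one_eq]
    funext k
    fin_cases k <;> simp

/-- the root `s_0 s_1 α_0` -/
theorem rep_inv_zero (hA : A 0 1 * A 1 0 = 3) :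
    rep cs h (cs.simple 1 * cs.simple 0)⁻¹ (sr 0) = ![2, -A 1 0] := by
  rw [mul_inv_rev, cs.inv_simple, cs.inv_simple, rep_mul_apply, sr_zero_eq]
  simp only [rep_zero, rep_one, Matrix.cons_val_zero, Matrix.cons_val_one]
  apply vec_ext
  · linear_combination hA
  · ring

variable (R : RGD cs h p T n X)

include R

/-- **The big characters for type `G₂`.** -/
theorem exists_chi_G2_mul [Finite W] [Finite Y] (hG : GG cs h T X = ⊤) (hTc : ∀ a ∈ T, ∀ b ∈ T, a * b = b * a)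
    (hA : A 0 1 * A 1 0 = 3) (hU : 2 ≤ Nat.card (X (sr 0))) {a : Y} (ha : a ∈ T) (ha2 : a * a ≠ 1)
    (hinv : (n 1)⁻¹ * a * n 1 = a⁻¹) (hc : ∀ u ∈ X ![2, -A 1 0], a * u = u * a)
    (hc' : ∀ u ∈ X (-![2, -A 1 0]), a * u = u * a) :
    ∃ (χ : IrrCharacter Y) (m : ℕ), charDegree (χ : Y → ℂ) = (PJ cs h T X {0}).index * m ∧
      ∀ ℓ : ℕ, ℓ.Prime → (∃ x ∈ T, orderOf x = ℓ ∧ ∀ u ∈ X (sr 0), x * u = u * x → u = 1) → ℓ ∣ m := by
  have hm : Rp cs R.nsys (cs.simple 1 * cs.simple 0) (n 1 * n 0) :=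
    (rp_simple cs R.nsys 1).mul (rp_simple cs R.nsys 0)
  have hy : ∀ u ∈ X (sr 0), (n 1 * n 0)⁻¹ * u * (n 1 * n 0) ∈ X ![2, -A 1 0] := by
    intro u hu
    have := R.conj_mem' hm (isRoot_sr cs h 0) hu
    rwa [rep_inv_zero hA] at this
  have hy' : ∀ u ∈ X (-sr 0), (n 1 * n 0)⁻¹ * u * (n 1 * n 0) ∈ X (-![2, -A 1 0]) := by
    intro u hu
    have := R.conj_mem' hm (isRoot_sr cs h 0).neg hu
    rwa [map_neg, rep_inv_zero hA] at this
  have hzT : (n 1 * n 0) * a * (n 1 * n 0)⁻¹ ∈ T := by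
    have h1 := (mem_normalizer_iff_cj.1 hm.mem_normalizer)
    have h2 : (n 1 * n 0) * a * (n 1 * n 0)⁻¹ ∈ cj (n 1 * n 0) T := conj_mem_cj.2 ha
    rwa [h1] at h2
  have hconj : ∀ u, a * ((n 1 * n 0)⁻¹ * u * (n 1 * n 0)) = ((n 1 * n 0)⁻¹ * u * (n 1 * n 0)) * a →
      (n 1 * n 0) * a * (n 1 * n 0)⁻¹ * u = u * ((n 1 * n 0) * a * (n 1 * n 0)⁻¹) := by
    intro u hu
    calc (n 1 * n 0) * a * (n 1 * n 0)⁻¹ * u =
          (n 1 * n 0) * (a * ((n 1 * n 0)⁻¹ * u * (n 1 * n 0))) * (n 1 * n 0)⁻¹ := by group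
      _ = (n 1 * n 0) * (((n 1 * n 0)⁻¹ * u * (n 1 * n 0)) * a) * (n 1 * n 0)⁻¹ := by rw [hu]
      _ = _ := by group
  have hz : (n 1 * n 0) * a * (n 1 * n 0)⁻¹ ∈ CT T X 0 :=
    mem_CT.2 ⟨hzT, fun u hu => hconj u (hc _ (hy u hu)), fun u hu => hconj u (hc' _ (hy' u hu))⟩
  refine exists_chi_inv_mul R hG hTc 0 hU hz ?_ ?_
  · intro h1
    apply ha2
    have h2 : (n 1 * n 0) * (a * a) * (n 1 * n 0)⁻¹ = 1 := by
      rw [← h1]
      group
    rwa [mul_inv_eq_one, mul_eq_left] at h2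
  · intro w g hg hw hwi
    have hwv := eq_vv hA hw hwi
    subst hwv
    have hg1 : Rp cs R.nsys (vv cs) ((n 1 * n 0) * n 1 * (n 1 * n 0)⁻¹) :=
      (hm.mul (rp_simple cs R.nsys 1)).mul hm.inv
    have ht := hg1.unique hg
    set m := n 1 * n 0 with hm0
    set t := (m * n 1 * m⁻¹)⁻¹ * g with ht0
    have e : g = m * n 1 * m⁻¹ * t := by rw [ht0]; group
    have e1 : (m * n 1 * m⁻¹)⁻¹ * (m * a * m⁻¹) * (m * n 1 * m⁻¹) = (m * a * m⁻¹)⁻¹ := by
      calc (m * n 1 * m⁻¹)⁻¹ * (m * a * m⁻¹) * (m * n 1 * m⁻¹) = m * ((n 1)⁻¹ * a * n 1) * m⁻¹ := by group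
        _ = _ := by rw [hinv]; group
    have e2 := hTc _ (inv_mem hzT) _ ht
    calc g⁻¹ * (m * a * m⁻¹) * g = t⁻¹ * ((m * n 1 * m⁻¹)⁻¹ * (m * a * m⁻¹) * (m * n 1 * m⁻¹)) * t := by
          rw [e]; group
      _ = t⁻¹ * ((m * a * m⁻¹)⁻¹ * t) := by rw [e1, mul_assoc]
      _ = t⁻¹ * (t * (m * a * m⁻¹)⁻¹) := by rw [e2]
      _ = _ := by group

/-- The two divisibilities. -/
theorem exists_chi_G2 [Finite W] [Finite Y] (hG : GG cs h T X = ⊤) (hTc : ∀ a ∈ T, ∀ b ∈ T, a * b = b * a)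
    (hA : A 0 1 * A 1 0 = 3) (hU : 2 ≤ Nat.card (X (sr 0))) {a : Y} (ha : a ∈ T) (ha2 : a * a ≠ 1)
    (hinv : (n 1)⁻¹ * a * n 1 = a⁻¹) (hc : ∀ u ∈ X ![2, -A 1 0], a * u = u * a)
    (hc' : ∀ u ∈ X (-![2, -A 1 0]), a * u = u * a) :
    ∃ χ : IrrCharacter Y, (PJ cs h T X {0}).index ∣ charDegree (χ : Y → ℂ) ∧
      ∀ ℓ : ℕ, ℓ.Prime → (∃ x ∈ T, orderOf x = ℓ ∧ ∀ u ∈ X (sr 0), x * u = u * x → u = 1) →
        ℓ ∣ charDegree (χ : Y → ℂ) := by
  obtain ⟨χ, m, h1, h2⟩ := exists_chi_G2_mul R hG hTc hA hU ha ha2 hinv hc hc'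
  refine ⟨χ, ⟨m, h1⟩, fun ℓ hℓ hx => ?_⟩
  rw [h1]
  exact (h2 ℓ hℓ hx).mul_left _

end Cfsg.Agent.H115.HC
end
end
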