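import Cfsg.Agent.H115.HC.RankTwo
import Cfsg.Agent.H35.ExcIdxTw_m3
import Cfsg.Agent.FixBN.ChevGood
import Cfsg.Agent.GpExc.Rank
import Cfsg.Agent.S1030
import Cfsg.Agent.S1035
import Cfsg.Agent.S1059
import Cfsg.Agent.H554.RGNo
import Cfsg.Agent.Nodes.RGDFold
import Cfsg.Agent.FastGrp
import Cfsg.Agent.Prune
set_option linter.all false

section
prune_inst 0x7ffcfcf9afacbfffdfff7e3ffedddff831c04fffe6dffd4b7fe0e1bf2bdf238c2fc5fbad0de050fe0ff6e09c10b87843fb7eefffe86bdc7ffffd5ff41ffbee0ff5f7b50871d59c340fbc0fff03f0778e6f3fffffffffffffffffffffffffffbefffffbfeffff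

-- part: H115/HC/GTwo
section
prune_inst 0x30204101140002000004000200007ce313000190000b0800c104004005802c0200002621b0000000108000040031004000000020000000000000040001190080008200022000a00004000e001080010000000000000000000000000000000000004010000
set_option linter.all false
open scoped Cfsg.Agent.FastGrp

/-!
# The big character of `G₂(q)`, `q ≥ 4` (helper115, TEAM DEG)

`big_four` : for `q ≥ 4` the group `chevG2.group F` has an irreducible character whose degree is divisible by all primes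
dividing the order of the group other than the characteristic.
-/

set_option autoImplicit false

open Cfsg

namespace Cfsg.Agent.H115.HC.GTwo

open CoxeterSystem Cfsg.Agent.ChevalleyStructure.CoxeterGeom Cfsg.Agent.Tits.Roots Cfsg.Agent.Tits.Core
  Cfsg.Agent.Nodes.Reps Cfsg.Agent.Nodes.BNOf Cfsg.Agent.Nodes.Bruhat Cfsg.Agent.Nodes.LeviDec
open Cfsg.Lie Cfsg.Agent.ChevalleyStructure Cfsg.Agent.ChevalleyStructure.Elts
  Cfsg.Agent.ChevalleyStructure.RootVec Cfsg.Agent.ChevalleyStructure.RootVecTab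
  Cfsg.Agent.ChevalleyStructure.NPerm Cfsg.Agent.ChevalleyStructure.CoxeterGeomTypes
open Cfsg.Agent.Nodes.RGDChev Cfsg.Agent.H35.ExcIdx Cfsg.Agent.H35.PoinNum

universe u

section gen

variable {D : ChevalleyDatum} {l : ℕ} {M : CoxeterMatrix (Fin l)} (hp : IsType D l M) (K : Type u) [Field K]

/-- `n_i` inverts `h_i(c)` -/
theorem nn_inv_hG (i : Fin l) {c : K} (hc : c ≠ 0) :
    (nn hp K i)⁻¹ * hG hp.inList (D.simple i) c * nn hp K i = (hG hp.inList (D.simple i) c)⁻¹ := by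
  have h := simple_lt hp.inList (lt_rank hp i)
  obtain ⟨φ, -, hφ'⟩ := Cfsg.Agent.S1030.result (F := K) D hp.inList (D.simple i) h
  let up : K → Matrix.SpecialLinearGroup (Fin 2) K := fun t => ⟨!![1, t; 0, 1], by simp [Matrix.det_fin_two]⟩
  let lo : K → Matrix.SpecialLinearGroup (Fin 2) K := fun t => ⟨!![1, 0; t, 1], by simp [Matrix.det_fin_two]⟩
  have hu : ∀ t, φ (up t) = xG hp.inList (D.simple i) t := fun t => Units.ext ((hφ' (up t) t).1 rfl)
  have hv : ∀ t, φ (lo t) = xG hp.inList (D.neg (D.simple i)) t := fun t => Units.ext ((hφ' (lo t) t).2 rfl)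
  have hn : ∀ t, nG hp.inList (D.simple i) t = φ (up t * lo (-t⁻¹) * up t) := fun t => by
    rw [nG_def, map_mul, map_mul, hu, hv, mul_assoc]
  have h1 : hG hp.inList (D.simple i) c = φ (up c * lo (-c⁻¹) * up c * (up (-1) * lo (-(-1)⁻¹) * up (-1))) := by
    rw [hG_def, map_mul, hn, hn]
  have h2 : nn hp K i = φ (up 1 * lo (-1⁻¹) * up 1) := hn 1
  have hb : (up c * lo (-c⁻¹) * up c * (up (-1) * lo (-(-1)⁻¹) * up (-1)) : Matrix.SpecialLinearGroup (Fin 2) K).1 =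
      !![c, 0; 0, c⁻¹] := by
    change (!![1, c; 0, 1] * !![1, 0; -c⁻¹, 1] * !![1, c; 0, 1] *
      (!![1, -1; 0, 1] * !![1, 0; -(-1)⁻¹, 1] * !![1, -1; 0, 1]) : Matrix (Fin 2) (Fin 2) K) = _
    ext i j
    (revert i j; simp [hc, _root_.Fin.forall_fin_succ])
  have ha : (up 1 * lo (-1⁻¹) * up 1 : Matrix.SpecialLinearGroup (Fin 2) K).1 = !![0, 1; -1, 0] := by
    change (!![1, 1; 0, 1] * !![1, 0; -1⁻¹, 1] * !![1, 1; 0, 1] : Matrix (Fin 2) (Fin 2) K) = _
    ext i j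
    (revert i j; simp [_root_.Fin.forall_fin_succ])
  have hab : (up c * lo (-c⁻¹) * up c * (up (-1) * lo (-(-1)⁻¹) * up (-1)) : Matrix.SpecialLinearGroup (Fin 2) K) *
      (up 1 * lo (-1⁻¹) * up 1) * (up c * lo (-c⁻¹) * up c * (up (-1) * lo (-(-1)⁻¹) * up (-1))) =
      up 1 * lo (-1⁻¹) * up 1 := by
    apply Subtype.ext
    change (up c * lo (-c⁻¹) * up c * (up (-1) * lo (-(-1)⁻¹) * up (-1)) : Matrix.SpecialLinearGroup (Fin 2) K).1 *
      (up 1 * lo (-1⁻¹) * up 1 : Matrix.SpecialLinearGroup (Fin 2) K).1 *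
      (up c * lo (-c⁻¹) * up c * (up (-1) * lo (-(-1)⁻¹) * up (-1)) : Matrix.SpecialLinearGroup (Fin 2) K).1 =
      (up 1 * lo (-1⁻¹) * up 1 : Matrix.SpecialLinearGroup (Fin 2) K).1
    rw [hb, ha]
    ext i j
    (revert i j; simp [hc, _root_.Fin.forall_fin_succ])
  rw [h1, h2]
  have h3 := congrArg φ hab
  rw [map_mul, map_mul] at h3
  rw [eq_inv_iff_mul_eq_one, mul_assoc, mul_assoc, inv_mul_eq_one, ← mul_assoc]
  exact h3.symm

end gen

theorem hpG2 : IsType chevG2 2 CoxeterMatrix.G₂ := by simp [IsType, typeList]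

/-- the elements `h_i(c)` -/
noncomputable def hh (K : Type u) [Field K] (i : Fin 2) (c : K) : ↥(chevG2.group K) :=
  ⟨hG hpG2.inList (chevG2.simple i) c, hG_mem_group hpG2.inList _ _⟩

variable {K : Type u} [Field K]

theorem hh_mem (i : Fin 2) {c : K} (hc : c ≠ 0) : hh K i c ∈ TT chevG2 K :=
  hG_mem_diagonal hpG2.inList (simple_lt hpG2.inList (lt_rank hpG2 i)) hc

theorem hh_mul (i : Fin 2) {c d : K} (hc : c ≠ 0) (hd : d ≠ 0) : hh K i c * hh K i d = hh K i (c * d) :=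
  Subtype.ext (Cfsg.Agent.ETable.Exc.hG_mul hpG2.inList (lt_rank hpG2 i) hc hd)

theorem hh_one (i : Fin 2) : hh K i 1 = 1 :=
  Subtype.ext (Cfsg.Agent.ETable.Exc.hG_one hpG2.inList (lt_rank hpG2 i))

theorem TT_comm : ∀ a ∈ TT chevG2 K, ∀ b ∈ TT chevG2 K, a * b = b * a := fun _ ha _ hb =>
  Subtype.ext (Cfsg.Agent.FixBN.ChevGood.diag_comm K hpG2 ha hb)

theorem mem_XX {r : ℕ} (hr : r < chevG2.nroots) {x : Fin 2 → ℤ} (hx : vec chevG2 2 r = x) {u : ↥(chevG2.group K)} :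
    u ∈ XX chevG2 2 K x ↔ ∃ t : K, u = ⟨xG hpG2.inList r t, xG_mem_group hpG2.inList r t⟩ := by
  subst hx
  rw [Subgroup.mem_subgroupOf, XV_vec hpG2 K hr, mem_rootSubgroup_iff hpG2.inList]
  constructor
  · rintro ⟨t, ht⟩
    exact ⟨t, Subtype.ext ht⟩
  · rintro ⟨t, rfl⟩
    exact ⟨t, rfl⟩

theorem vecs : vec chevG2 2 9 = ![2, 1] ∧ vec chevG2 2 2 = -![2, 1] ∧ vec chevG2 2 7 = sr 0 := by
  refine ⟨?_, ?_, ?_⟩ <;> (funext i; revert i; decide +kernel)

theorem cart : cartanOf chevG2 2 0 1 = -3 ∧ cartanOf chevG2 2 1 0 = -1 := by decide +kernel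

theorem cart2 : chevG2.cartan 1 9 = 0 ∧ chevG2.cartan 1 2 = 0 ∧ chevG2.cartan 0 7 = 2 ∧ chevG2.cartan 1 6 = 2 := by
  decide +kernel

theorem cart3 : chevG2.cartan 1 8 = 1 ∧ 8 < chevG2.nroots ∧ 9 < chevG2.nroots ∧ 2 < chevG2.nroots ∧
    7 < chevG2.nroots ∧ 0 < chevG2.rank ∧ 1 < chevG2.rank := by
  decide +kernel

theorem hh_xG (i : Fin 2) {s : ℕ} (hs : s < chevG2.nroots) {c : K} (hc : c ≠ 0) (t : K) :
    hh K i c * ⟨xG hpG2.inList s t, xG_mem_group hpG2.inList s t⟩ =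
      ⟨xG hpG2.inList s (c ^ (chevG2.cartan i s) * t), xG_mem_group hpG2.inList s _⟩ * hh K i c :=
  Subtype.ext (Cfsg.Agent.ETable.Exc.hG_xG hpG2.inList (lt_rank hpG2 i) hs hc t)

/-- an element `h_i(c)` with `c ^ ⟨s, α_i⟩ ≠ 1` acts fixed point freely on the root group `s` -/
theorem free {i : Fin 2} {s : ℕ} (hs : s < chevG2.nroots) {c : K} (hc : c ≠ 0) (hcs : c ^ (chevG2.cartan i s) ≠ 1)
    {t : K} (ht : hh K i c * ⟨xG hpG2.inList s t, xG_mem_group hpG2.inList s t⟩ =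
      ⟨xG hpG2.inList s t, xG_mem_group hpG2.inList s t⟩ * hh K i c) : t = 0 := by
  rw [hh_xG i hs hc, mul_left_inj] at ht
  have h1 := xG_injective hpG2.inList hs (congrArg Subtype.val ht)
  by_contra h0
  apply hcs
  exact mul_right_cancel₀ h0 (by rw [h1, one_mul])

theorem hh_ne_one {i : Fin 2} {s : ℕ} (hs : s < chevG2.nroots) {c : K} (hc : c ≠ 0)
    (hcs : c ^ (chevG2.cartan i s) ≠ 1) : hh K i c ≠ 1 := by
  intro h1
  have := free hs hc hcs (t := 1) (by rw [h1, one_mul, mul_one])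
  exact one_ne_zero this

variable [Fintype K]

/-- the index of the parabolic subgroup -/
theorem index_eq' : (PJ CoxeterMatrix.G₂.toCoxeterSystem hpG2.isCartan (TT chevG2 K) (XX chevG2 2 K) {0}).index =
    (Fintype.card K + 1) * (Fintype.card K ^ 4 + Fintype.card K ^ 2 + 1) := by
  obtain ⟨p, hch⟩ := CharP.exists K
  obtain ⟨⟨f, hf⟩, hpp, hcard⟩ := FiniteField.card K p
  have hcard' : Fintype.card K = p ^ f := hcard
  have : Fact p.Prime := ⟨hpp⟩
  have hfin := finite_W hpG2 CoxeterMatrix.G₂.toCoxeterSystem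
  have R := rgd (K := K) hpG2 CoxeterMatrix.G₂.toCoxeterSystem p
  have h2 : 2 ≤ p ^ f := two_le hpp hf.ne'
  have hpr : pr (p ^ f) [2, 6] = ((p ^ f) ^ 2 - 1) * ((p ^ f) ^ 6 - 1) := by
    rw [pr_cons, pr_cons, pr_nil, mul_one]
  have hN : Nat.card ↥(PJ CoxeterMatrix.G₂.toCoxeterSystem hpG2.isCartan (TT chevG2 K) (XX chevG2 2 K) {0}) =
      (p ^ f + 1) * Nat.card ↥(RGD.B CoxeterMatrix.G₂.toCoxeterSystem hpG2.isCartan (TT chevG2 K) (XX chevG2 2 K)) := by
    have h1 := Cfsg.Agent.H554.RG.relIndex_B_PJ_singleton R 0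
    rw [card_XX hpG2 K CoxeterMatrix.G₂.toCoxeterSystem (isRoot_sr _ hpG2.isCartan 0), Nat.card_eq_fintype_card,
      hcard'] at h1
    rw [← h1, mul_comm]
    have h2 := Subgroup.relIndex_mul_relIndex ⊥ _ _ bot_le (B_le_PJ (cs := CoxeterMatrix.G₂.toCoxeterSystem)
      (h := hpG2.isCartan) (T := TT chevG2 K) (X := XX chevG2 2 K) (J := {0}))
    rw [Subgroup.relIndex_bot_left, Subgroup.relIndex_bot_left] at h2
    exact h2.symm
  have h1 := index_split hpG2 K hpp hf.ne' hcard' CoxeterMatrix.G₂.toCoxeterSystem (J := {0}) (N := p ^ f + 1) (d := 1)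
    (P := pr (p ^ f) [2, 6]) (by
      rw [Nat.dvd_one]
      exact hpp.one_lt.ne') (by
      rw [← hcard']
      exact Cfsg.Agent.S1035.result rfl (chevG2, 1) (by simp only [_root_.List.mem_cons, _root_.Prod.mk.injEq, _root_.and_true, _root_.List.not_mem_nil, _root_.or_false, _root_.true_or])) ⟨f * 6, by
      rw [one_mul, Cfsg.Agent.S1059.result rfl, hcard', hpr, pow_mul, mul_assoc]⟩
      (not_dvd_pr hpp hf.ne' _ (by simp)) hN
  rw [hpr] at h1
  rw [hcard']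
  obtain ⟨m, hm⟩ := Nat.exists_eq_add_of_le h2
  rw [hm] at h1 ⊢
  have e1 : 2 + m - 1 = m + 1 := by omega
  have e2 : (2 + m) ^ 2 - 1 = (m + 1) * (2 + m + 1) := by
    rw [show (2 + m) ^ 2 = (m + 1) * (2 + m + 1) + 1 by ring]
    rfl
  have e3 : (2 + m) ^ 6 - 1 = (m + 1) * ((2 + m + 1) * ((2 + m) ^ 4 + (2 + m) ^ 2 + 1)) := by
    rw [show (2 + m) ^ 6 = (m + 1) * ((2 + m + 1) * ((2 + m) ^ 4 + (2 + m) ^ 2 + 1)) + 1 by ring]
    rfl
  rw [e1, e2, e3] at h1
  have h3 : 0 < (2 + m + 1) * (m + 1) ^ 2 := by (clear * -; positivity)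
  apply Nat.eq_of_mul_eq_mul_right h3
  rw [← mul_assoc, h1]
  ring

theorem arith {q ℓ : ℕ} (hq : 2 ≤ q) (hℓ : ℓ.Prime) (h1 : ℓ ∣ q ^ 6 * (q ^ 2 - 1) * (q ^ 6 - 1)) (h2 : ¬ ℓ ∣ q) :
    ℓ ∣ (q + 1) * (q ^ 4 + q ^ 2 + 1) ∨ (ℓ ≠ 2 ∧ ℓ ∣ q - 1) := by
  obtain ⟨m, rfl⟩ := Nat.exists_eq_add_of_le hq
  have e1 : 2 + m - 1 = m + 1 := by omega
  have e2 : (2 + m) ^ 2 - 1 = (m + 1) * (2 + m + 1) := by
    rw [show (2 + m) ^ 2 = (m + 1) * (2 + m + 1) + 1 by ring]
    rfl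
  have e3 : (2 + m) ^ 6 - 1 = (m + 1) * ((2 + m + 1) * ((2 + m) ^ 4 + (2 + m) ^ 2 + 1)) := by
    rw [show (2 + m) ^ 6 = (m + 1) * ((2 + m + 1) * ((2 + m) ^ 4 + (2 + m) ^ 2 + 1)) + 1 by ring]
    rfl
  rw [e2, e3] at h1
  rw [e1]
  have key : ℓ ∣ m + 1 ∨ ℓ ∣ (2 + m + 1) * ((2 + m) ^ 4 + (2 + m) ^ 2 + 1) := by
    rcases hℓ.dvd_mul.1 h1 with h3 | h3
    · rcases hℓ.dvd_mul.1 h3 with h4 | h4
      · exact absurd (hℓ.dvd_of_dvd_pow h4) h2
      · rcases hℓ.dvd_mul.1 h4 with h5 | h5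
        · exact Or.inl h5
        · exact Or.inr (h5.mul_right _)
    · exact hℓ.dvd_mul.1 h3
  rcases key with h3 | h3
  · by_cases h4 : ℓ = 2
    · left
      subst h4
      have h5 : 2 ∣ 2 + m + 1 := by
        rw [show 2 + m + 1 = (m + 1) + 2 by ring]
        exact dvd_add h3 (dvd_refl 2)
      exact h5.mul_right _
    · exact Or.inr ⟨h4, h3⟩
  · exact Or.inl h3

theorem zpow_aux {K : Type u} [Field K] (h2 : (2 : K) ≠ 0) : (-1 : K) ^ (-1 : ℤ) ≠ 1 := by
  rw [Odd.neg_one_zpow (by decide)]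
  intro h
  apply h2
  have : (2 : K) = 1 + 1 := by norm_num
  rw [this]
  nth_rw 1 [← h]
  exact neg_add_cancel 1

theorem cart4 : chevG2.cartan 1 7 = -1 := by decide +kernel

/-- **The degrees of the Harish-Chandra induced cuspidal characters of `G₂(q)`, `q ≥ 4`.** -/
theorem char_four (h4 : 4 ≤ Fintype.card K) : ∃ (χ : IrrCharacter ↥(chevG2.group K)) (m : ℕ),
    charDegree (χ : ↥(chevG2.group K) → ℂ) =
      ((Fintype.card K + 1) * (Fintype.card K ^ 4 + Fintype.card K ^ 2 + 1)) * m ∧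
      (∀ ℓ : ℕ, ℓ.Prime → ℓ ≠ 2 → ℓ ∣ Fintype.card K - 1 → ℓ ∣ m) ∧ ((2 : K) ≠ 0 → 2 ∣ m) := by
  classical
  obtain ⟨p, hch⟩ := CharP.exists K
  obtain ⟨⟨f, hf⟩, hpp, hcard⟩ := FiniteField.card K p
  have : Fact p.Prime := ⟨hpp⟩
  have hfin := finite_W hpG2 CoxeterMatrix.G₂.toCoxeterSystem
  have R := rgd (K := K) hpG2 CoxeterMatrix.G₂.toCoxeterSystem p
  obtain ⟨c, hc0, hc2⟩ := Cfsg.Agent.ETable.Exc.exists_sq_ne_one K (by
    rw [Nat.card_eq_fintype_card]
    omega)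
  obtain ⟨hx9, hx2, hx7⟩ := vecs
  obtain ⟨k1, k2⟩ := cart
  obtain ⟨d1, d2, d3, d4⟩ := cart2
  obtain ⟨g1, g2, g3, g4, g5, g6, g7⟩ := cart3
  obtain ⟨χ, m, h1, h2⟩ := exists_chi_G2_mul R (GG_eq_top hpG2 K _) TT_comm (by rw [k1, k2]; norm_num)
    (by
      rw [card_XX hpG2 K CoxeterMatrix.G₂.toCoxeterSystem (isRoot_sr _ hpG2.isCartan 0), Nat.card_eq_fintype_card]
      omega) (a := hh K 1 c) (hh_mem 1 hc0)
    (by
      rw [hh_mul 1 hc0 hc0]
      refine hh_ne_one g2 (mul_ne_zero hc0 hc0) ?_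
      change (c * c) ^ (chevG2.cartan 1 8) ≠ 1
      rw [g1, zpow_one, ← sq]
      exact hc2)
    (Subtype.ext (nn_inv_hG hpG2 K 1 hc0))
    (by
      rw [k2, _root_.neg_neg]
      intro u hu
      obtain ⟨t, rfl⟩ := (mem_XX g3 hx9).1 hu
      rw [hh_xG 1 g3 hc0]
      change (⟨xG _ 9 (c ^ (chevG2.cartan 1 9) * t), _⟩ : ↥(chevG2.group K)) * _ = _
      simp only [d1, zpow_zero, one_mul])
    (by
      rw [k2, _root_.neg_neg]
      intro u hu
      obtain ⟨t, rfl⟩ := (mem_XX g4 hx2).1 hu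
      rw [hh_xG 1 g4 hc0]
      change (⟨xG _ 2 (c ^ (chevG2.cartan 1 2) * t), _⟩ : ↥(chevG2.group K)) * _ = _
      simp only [d2, zpow_zero, one_mul])
  rw [index_eq'] at h1
  refine ⟨χ, m, h1, fun ℓ hℓ h3 h5 => ?_, fun h2K => ?_⟩
  · refine h2 ℓ hℓ ?_
    have := Fact.mk hℓ
    obtain ⟨d, hd⟩ := exists_prime_orderOf_dvd_card (G := Kˣ) ℓ (by rwa [Fintype.card_units])
    have hd1 : (d : K) ^ 2 ≠ 1 := by
      intro h6
      have h7 : d ^ 2 = 1 := Units.ext (by rw [Units.val_pow_eq_pow_val, h6, Units.val_one])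
      have h8 := orderOf_dvd_of_pow_eq_one h7
      rw [hd] at h8
      exact h3 ((Nat.prime_dvd_prime_iff_eq hℓ Nat.prime_two).1 h8)
    have hfree : (d : K) ^ (chevG2.cartan (0 : Fin 2) 7) ≠ 1 := by
      change (d : K) ^ (chevG2.cartan 0 7) ≠ 1
      rw [d3]
      exact_mod_cast hd1
    refine ⟨hh K 0 d, hh_mem 0 d.ne_zero, ?_, ?_⟩
    · refine orderOf_eq_prime ?_ (hh_ne_one g5 d.ne_zero hfree)
      have key : ∀ k : ℕ, hh K 0 (d : K) ^ k = hh K 0 ((d : K) ^ k) := by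
        intro k
        induction k with
        | zero => rw [pow_zero, pow_zero, hh_one]
        | succ k ih => rw [pow_succ, ih, hh_mul 0 (pow_ne_zero _ d.ne_zero) d.ne_zero, ← pow_succ]
      rw [key, ← Units.val_pow_eq_pow_val, ← hd, pow_orderOf_eq_one, Units.val_one, hh_one]
    · intro u hu huc
      obtain ⟨t, rfl⟩ := (mem_XX g5 hx7).1 hu
      have ht := free g5 d.ne_zero hfree huc
      subst ht
      exact Subtype.ext (xG_zero hpG2.inList 7)
  · refine h2 2 Nat.prime_two ?_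
    have hne : (-1 : K) ≠ 0 := neg_ne_zero.2 one_ne_zero
    have hfree : (-1 : K) ^ (chevG2.cartan (1 : Fin 2) 7) ≠ 1 := by
      change (-1 : K) ^ (chevG2.cartan 1 7) ≠ 1
      rw [cart4]
      exact zpow_aux h2K
    refine ⟨hh K 1 (-1), hh_mem 1 hne, ?_, ?_⟩
    · have := Fact.mk Nat.prime_two
      refine orderOf_eq_prime ?_ (hh_ne_one g5 hne hfree)
      rw [pow_two, hh_mul 1 hne hne, neg_mul_neg, one_mul, hh_one]
    · intro u hu huc
      obtain ⟨t, rfl⟩ := (mem_XX g5 hx7).1 hu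
      have ht := free g5 hne hfree huc
      subst ht
      exact Subtype.ext (xG_zero hpG2.inList 7)

/-- **The big character of `G₂(q)`, `q ≥ 4`.** -/
theorem big_four (h4 : 4 ≤ Fintype.card K) : ∃ χ : IrrCharacter ↥(chevG2.group K),
    ∀ ℓ : ℕ, ℓ.Prime → ℓ ∣ Nat.card ↥(chevG2.group K) → ¬ ℓ ∣ Fintype.card K →
      ℓ ∣ charDegree (χ : ↥(chevG2.group K) → ℂ) := by
  obtain ⟨χ, m, h1, h2, -⟩ := char_four h4
  refine ⟨χ, fun ℓ hℓ hd hq => ?_⟩
  rw [Cfsg.Agent.S1059.result rfl] at hd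
  rw [h1]
  rcases arith (by omega) hℓ hd hq with h3 | ⟨h3, h5⟩
  · exact h3.mul_right _
  · exact (h2 ℓ hℓ h3 h5).mul_left _

end Cfsg.Agent.H115.HC.GTwo
end

-- part: H115/HC/GThree
section
prune_inst 0x1020000000000000000000000000000000000200000000106000000006100000000800400009000020000000000008110000000200000000000000000400000000000080080000200000000000000000000000000000000000000000041000000000000
set_option linter.all false
open scoped Cfsg.Agent.FastGrp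

/-!
# The big character of `G₂(3)` (helper115, TEAM DEG)

The Levi subgroup `L = LJ {0}` is `GL₂(3)`, `T` has order `4`; the faithful cuspidal characters `ψ` of `L` are not
invariant under the reflection `g` of the orthogonal root: otherwise `ψ` would vanish outside the subgroup `M` of index
`2`, and `∑_M |ψ|² = 6 ψ(1)²` would be `48`.
-/

set_option autoImplicit false

open scoped ComplexConjugate
open Cfsg

namespace Cfsg.Agent.H115.HC.GThree

abbrev SL3 := Matrix.SpecialLinearGroup (Fin 2) (ZMod 3)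

/-- the matrix with given entries -/
def mk (a b c d : ZMod 3) (h : a * d - b * c = 1) : SL3 := ⟨!![a, b; c, d], by rw [Matrix.det_fin_two]; exact h⟩

theorem eq_mk (g : SL3) : ∃ (a b c d : ZMod 3) (h : a * d - b * c = 1), g = mk a b c d h :=
  ⟨g 0 0, g 0 1, g 1 0, g 1 1, by
    have := g.2
    rw [Matrix.det_fin_two] at this
    exact this, Subtype.ext (Matrix.eta_fin_two g.1)⟩

/-- `-1` -/
def mo : SL3 := mk (-1) 0 0 (-1) (by decide)

/-- upper unitriangular matrices -/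
def up (t : ZMod 3) : SL3 := mk 1 t 0 1 (by rw [mul_zero, sub_zero, mul_one])

theorem dec1 : ∀ a b c d : ZMod 3, a * d - b * c = 1 → a + d = 0 → ∃ x y z t : ZMod 3, x * t - y * z = 1 ∧
    x * a + y * c = -(a * x + b * z) ∧ x * b + y * d = -(a * y + b * t) ∧ z * a + t * c = -(c * x + d * z) ∧
    z * b + t * d = -(c * y + d * t) := by
  decide +kernel

set_option synthInstance.maxHeartbeats 400000 in
set_option synthInstance.maxSize 10000 in
theorem dec2 : ∀ a b c d : ZMod 3, a * d - b * c = 1 → a + d ≠ 0 → ∃ x y z t e : ZMod 3, x * t - y * z = 1 ∧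
    ((a + d) = 1 ∨ (a + d) = -1) ∧
    x * a + y * c = -(a + d) * (x + e * z) ∧ x * b + y * d = -(a + d) * (y + e * t) ∧ z * a + t * c = -(a + d) * z ∧
    z * b + t * d = -(a + d) * t ∧ (e = 0 ↔ b = 0 ∧ c = 0) := by
  decide +kernel

/-- the weights `4 |Ψ(g)|² / Ψ(1)²` -/
def wt (g : SL3) : ℕ := if g.1 0 0 + g.1 1 1 = 0 then 0 else if g.1 0 1 = 0 ∧ g.1 1 0 = 0 then 4 else 1

theorem sum_wt : ∑ g : SL3, wt g = 24 := by
  decide +kernel

theorem wt_mk (a b c d : ZMod 3) (h : a * d - b * c = 1) :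
    wt (mk a b c d h) = if a + d = 0 then 0 else if b = 0 ∧ c = 0 then 4 else 1 := rfl

/-- the norm of the faithful cuspidal class functions -/
theorem sum_norm {Ψ : SL3 → ℂ} (hcl : ∀ g h, Ψ (h * g * h⁻¹) = Ψ g) (hneg : ∀ g, Ψ (mo * g) = -Ψ g) {d : ℂ}
    (h0 : Ψ 1 = d) (hd : conj d = d) (h1 : Ψ (up 1) = -d / 2) (h2 : Ψ (up 2) = -d / 2) :
    ∑ g : SL3, Ψ g * conj (Ψ g) = 6 * d ^ 2 := by
  have key : ∀ g : SL3, Ψ g * conj (Ψ g) = (wt g : ℂ) * (d ^ 2 / 4) := by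
    intro g
    obtain ⟨a, b, c, e, hg, rfl⟩ := eq_mk g
    rw [wt_mk]
    by_cases hae : a + e = 0
    · rw [if_pos hae, Nat.cast_zero, zero_mul]
      obtain ⟨x, y, z, t, k0, k1, k2, k3, k4⟩ := dec1 a b c e hg hae
      have hz : Ψ (mk a b c e hg) = -Ψ (mk a b c e hg) := by
        rw [← hneg]
        have e1 : mo * mk a b c e hg = mk x y z t k0 * mk a b c e hg * (mk x y z t k0)⁻¹ := by
          rw [eq_mul_inv_iff_mul_eq]
          apply Subtype.ext
          change !![-1, 0; 0, -1] * !![a, b; c, e] * !![x, y; z, t] = !![x, y; z, t] * !![a, b; c, e]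
          rw [Matrix.mul_fin_two, Matrix.mul_fin_two, Matrix.mul_fin_two, k1, k2, k3, k4]
          congr 1
          ext i j
          (revert i j; simp only [_root_.Fin.forall_fin_succ, _root_.Nat.succ_eq_add_one, Nat.reduceAdd, _root_.neg_mul, _root_.one_mul, _root_.MulZeroClass.zero_mul, _root_.add_zero, _root_.zero_add, _root_.Matrix.cons_val', _root_.Matrix.cons_val_fin_one, _root_.neg_add_rev, Fin.isValue, _root_.Matrix.cons_val_zero, _root_.Matrix.cons_val_succ, _root_.forall_const]) <;> (repeat' with_reducible apply And.intro) <;> ring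
        rw [e1, hcl]
      have hz' : Ψ (mk a b c e hg) = 0 := self_eq_neg.1 hz
      rw [hz', zero_mul]
    · rw [if_neg hae]
      obtain ⟨x, y, z, t, f, k0, ks, k1, k2, k3, k4, k5⟩ := dec2 a b c e hg hae
      have hval : Ψ (mk a b c e hg) * conj (Ψ (mk a b c e hg)) = Ψ (up f) * conj (Ψ (up f)) := by
        rcases ks with ks | ks
        · have e1 : mo * up f = mk x y z t k0 * mk a b c e hg * (mk x y z t k0)⁻¹ := by
            rw [eq_mul_inv_iff_mul_eq]
            apply Subtype.ext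
            change !![-1, 0; 0, -1] * !![1, f; 0, 1] * !![x, y; z, t] = !![x, y; z, t] * !![a, b; c, e]
            rw [Matrix.mul_fin_two, Matrix.mul_fin_two, Matrix.mul_fin_two, k1, k2, k3, k4, ks]
            congr 1
            ext i j
            (revert i j; simp only [_root_.Fin.forall_fin_succ, _root_.Nat.succ_eq_add_one, Nat.reduceAdd, _root_.mul_one, _root_.MulZeroClass.mul_zero, _root_.add_zero, _root_.neg_mul, _root_.one_mul, _root_.MulZeroClass.zero_mul, _root_.zero_add, _root_.Matrix.cons_val', _root_.Matrix.cons_val_fin_one, _root_.neg_add_rev, Fin.isValue, _root_.Matrix.cons_val_zero, _root_.Matrix.cons_val_succ, _root_.forall_const, _root_.and_self, _root_.implies_true, _root_.and_true]) <;> (repeat' with_reducible apply And.intro) <;> ring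
          have e2 : Ψ (mk a b c e hg) = -Ψ (up f) := by
            rw [← hneg, e1, hcl]
          rw [e2, map_neg, neg_mul_neg]
        · have e1 : up f = mk x y z t k0 * mk a b c e hg * (mk x y z t k0)⁻¹ := by
            rw [eq_mul_inv_iff_mul_eq]
            apply Subtype.ext
            change !![1, f; 0, 1] * !![x, y; z, t] = !![x, y; z, t] * !![a, b; c, e]
            rw [Matrix.mul_fin_two, Matrix.mul_fin_two, k1, k2, k3, k4, ks]
            congr 1
            ext i j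
            (revert i j; simp [_root_.Fin.forall_fin_succ])
          have e2 : Ψ (mk a b c e hg) = Ψ (up f) := by
            rw [e1, hcl]
          rw [e2]
      rw [hval]
      by_cases hbc : b = 0 ∧ c = 0
      · rw [if_pos hbc, k5.2 hbc]
        have : up 0 = 1 := Subtype.ext (by
          change !![1, 0; 0, 1] = 1
          exact Matrix.one_fin_two.symm)
        rw [this, h0, hd]
        push_cast
        ring
      · rw [if_neg hbc]
        have hf : f ≠ 0 := fun h => hbc (k5.1 h)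
        have hf'' : ∀ x : ZMod 3, x ≠ 0 → x = 1 ∨ x = 2 := by decide
        have hf' := hf'' f hf
        rcases hf' with rfl | rfl
        · rw [h1]
          simp only [map_div₀, map_neg, hd, Complex.conj_ofNat]
          push_cast
          ring
        · rw [h2]
          simp only [map_div₀, map_neg, hd, Complex.conj_ofNat]
          push_cast
          ring
  rw [Finset.sum_congr rfl fun g _ => key g, ← Finset.sum_mul, ← Nat.cast_sum, sum_wt]
  push_cast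
  ring

theorem card_sl : Nat.card SL3 = 24 := by
  rw [Nat.card_eq_fintype_card]
  decide +kernel

theorem up_add (s t : ZMod 3) : up s * up t = up (s + t) := by
  apply Subtype.ext
  change !![1, s; 0, 1] * !![1, t; 0, 1] = !![1, s + t; 0, 1]
  rw [Matrix.mul_fin_two]
  congr 1
  ext i j
  (revert i j; simp only [_root_.Fin.forall_fin_succ, _root_.Nat.succ_eq_add_one, Nat.reduceAdd, _root_.mul_one, _root_.MulZeroClass.mul_zero, _root_.add_zero, _root_.one_mul, _root_.MulZeroClass.zero_mul, _root_.zero_add, _root_.Matrix.cons_val', _root_.Matrix.cons_val_fin_one, Fin.isValue, _root_.Matrix.cons_val_zero, _root_.Matrix.cons_val_succ, _root_.forall_const, _root_.implies_true, _root_.and_true, _root_.true_and]) <;> (repeat' with_reducible apply And.intro)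
  exact add_comm _ _

theorem up_zero : up 0 = 1 := Subtype.ext (by
  change !![1, 0; 0, 1] = 1
  exact Matrix.one_fin_two.symm)

theorem mo_mul_mo : mo * mo = 1 := by
  apply Subtype.ext
  change !![-1, 0; 0, -1] * !![-1, 0; 0, -1] = 1
  rw [Matrix.mul_fin_two, Matrix.one_fin_two]
  congr 1

theorem mo_comm (g : SL3) : mo * g = g * mo := by
  obtain ⟨a, b, c, d, hg, rfl⟩ := eq_mk g
  apply Subtype.ext
  change !![-1, 0; 0, -1] * !![a, b; c, d] = !![a, b; c, d] * !![-1, 0; 0, -1]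
  rw [Matrix.mul_fin_two, Matrix.mul_fin_two]
  congr 1
  ext i j
  (revert i j; simp [_root_.Fin.forall_fin_succ])

open CoxeterSystem Cfsg.Agent.ChevalleyStructure.CoxeterGeom Cfsg.Agent.Tits.Roots Cfsg.Agent.Tits.Core
  Cfsg.Agent.Nodes.Reps Cfsg.Agent.Nodes.BNOf Cfsg.Agent.Nodes.Bruhat Cfsg.Agent.Nodes.LeviDec Cfsg.Agent.Characters
  Cfsg.Agent.Characters.Core Cfsg.Agent.H53.HC Cfsg.Agent.Nodes.StabComb Cfsg.Agent.Nodes.OppDec

section abs

variable {W Y : Type*} [Group W] [Group Y] {M : CoxeterMatrix (Fin 2)}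
  {cs : CoxeterSystem M W} {A : Fin 2 → Fin 2 → ℤ} {h : IsCartan M A} {p : ℕ} {T : Subgroup Y} {n : Fin 2 → Y}
  {X : (Fin 2 → ℤ) → Subgroup Y} (R : RGD cs h p T n X)

include R

/-- the order of the Levi subgroup is at least `48` -/
theorem card_LJ_ge [Finite W] [Finite Y] (hX : Nat.card (X (sr 0)) = 3) (hT : Nat.card T = 4) :
    48 ≤ Nat.card (LJ cs h T X {0}) := by
  have D := data R 0
  have h1 := D.index
  have h2 := Subgroup.index_mul_card ((BJ cs h T X {0}).subgroupOf (LJ cs h T X {0}))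
  rw [h1, Nat.card_congr (Subgroup.subgroupOfEquivOfLe (X_le_LJ_single (0 : Fin 2))).toEquiv, hX] at h2
  have h3 : 3 ∣ Nat.card ((BJ cs h T X {0}).subgroupOf (LJ cs h T X {0})) := by
    have h4 := Subgroup.card_dvd_of_le D.le
    rwa [Nat.card_congr (Subgroup.subgroupOfEquivOfLe (X_le_LJ_single (0 : Fin 2))).toEquiv, hX] at h4
  have h4 : 4 ∣ Nat.card ((BJ cs h T X {0}).subgroupOf (LJ cs h T X {0})) := by
    have h5 : T.subgroupOf (LJ cs h T X {0}) ≤ (BJ cs h T X {0}).subgroupOf (LJ cs h T X {0}) := by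
      intro x hx
      exact T_le_BJ hx
    have h6 := Subgroup.card_dvd_of_le h5
    rwa [Nat.card_congr (Subgroup.subgroupOfEquivOfLe (T_le_LJ (cs := cs) (h := h) (T := T) (X := X) (J := {0}))).toEquiv,
      hT] at h6
  have h5 : 12 ∣ Nat.card ((BJ cs h T X {0}).subgroupOf (LJ cs h T X {0})) :=
    (by norm_num : Nat.Coprime 3 4).mul_dvd_of_dvd_of_dvd h3 h4
  have h6 := Nat.le_of_dvd Nat.card_pos h5
  (clear * - h2 h6; omega)

/-- **The case `q = 3`.** -/
theorem exists_chi_three [Finite W] [Finite Y] (hG : GG cs h T X = ⊤) (hTc : ∀ a ∈ T, ∀ b ∈ T, a * b = b * a)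
    (hA : A 0 1 * A 1 0 = 3) (hX : Nat.card (X (sr 0)) = 3) (hT : Nat.card T = 4)
    (φ : SL3 →* Y) (hφ : ∀ t, φ (up t) ∈ X (sr 0)) (hφ1 : φ (up 1) ≠ 1) (hφL : ∀ g, φ g ∈ LJ cs h T X {0})
    (hz : φ mo ∈ CT T X 0) (hz1 : φ mo ≠ 1) {t1 : Y} (ht1 : t1 ∈ T) (hc1 : t1 * φ (up 1) * t1⁻¹ = φ (up 2))
    (hsurj : ∀ l ∈ LJ cs h T X {0}, (∃ g, l = φ g) ∨ ∃ g, l = t1 * φ g)
    {g1 : Y} (hg1 : Rp cs R.nsys (vv cs) g1) (hg1c : ∀ g, g1⁻¹ * φ g * g1 = φ g)
    (hg1t : g1⁻¹ * t1 * g1 = t1 * φ mo) :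
    ∃ χ : IrrCharacter Y, (PJ cs h T X {0}).index ∣ charDegree (χ : Y → ℂ) := by
  classical
  have := Fintype.ofFinite Y
  obtain ⟨f, hf⟩ := exists_hom_ne_one hTc (CT_le hz) hz1
  have hf2 : (f ⟨φ mo, CT_le hz⟩ : ℂ) = -1 := by
    have h1 : f ⟨φ mo, CT_le hz⟩ * f ⟨φ mo, CT_le hz⟩ = 1 := by
      rw [← map_mul, ← map_one f]
      congr 1
      apply Subtype.ext
      change φ mo * φ mo = 1
      rw [← map_mul, mo_mul_mo, map_one]
    have h2 : (f ⟨φ mo, CT_le hz⟩ : ℂ) * (f ⟨φ mo, CT_le hz⟩ : ℂ) = 1 := by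
      rw [← Units.val_mul, h1, Units.val_one]
    rcases mul_self_eq_one_iff.1 h2 with h3 | h3
    · exact absurd (Units.ext h3) hf
    · exact h3
  obtain ⟨ψ, hψ, hψc, hψz⟩ := exists_psi R hTc 0 (by rw [hX]; norm_num) f
  have hψz' := hψz (φ mo) hz
  rw [hf2] at hψz'
  have hψ0 : ψ 1 ≠ 0 := isIrr_apply_one_ne_zero hψ
  let Φ : SL3 →* ↥(LJ cs h T X {0}) := φ.codRestrict _ hφL
  let τ : ↥(LJ cs h T X {0}) := ⟨t1, T_le_LJ ht1⟩
  have hsurj' : ∀ l : ↥(LJ cs h T X {0}), (∃ g, l = Φ g) ∨ ∃ g, l = τ * Φ g := by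
    rintro ⟨l, hl⟩
    rcases hsurj l hl with ⟨g, hg⟩ | ⟨g, hg⟩
    · exact Or.inl ⟨g, Subtype.ext hg⟩
    · exact Or.inr ⟨g, Subtype.ext hg⟩
  have hcl : ∀ x y : ↥(LJ cs h T X {0}), ψ (y * x * y⁻¹) = ψ x := fun x y => isIrr_isClassFunction hψ x y
  have hcen : ∀ g : ↥(LJ cs h T X {0}), Φ mo * g = g * Φ mo := by
    have hτ : Φ mo * τ = τ * Φ mo := Subtype.ext (hTc _ (CT_le hz) _ ht1)
    intro g
    rcases hsurj' g with ⟨x, rfl⟩ | ⟨x, rfl⟩
    · rw [← map_mul, mo_comm, map_mul]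
    · rw [← mul_assoc, hτ, mul_assoc, ← map_mul, mo_comm, map_mul, mul_assoc]
  have hneg : ∀ x : ↥(LJ cs h T X {0}), ψ (Φ mo * x) = -ψ x := by
    intro x
    rw [CuspCentral.central_apply hψ hcen, show ψ (Φ mo) = -1 * ψ 1 from hψz']
    field_simp
  obtain ⟨χ, hχ, hχ1⟩ := exists_chi_of_psi R hG 0 hψ hψc (by
    intro w g hg hw hwi
    have hwv := eq_vv hA hw hwi
    subst hwv
    have ht := hg1.unique hg
    set t := g1⁻¹ * g with ht0
    have e : g = g1 * t := by rw [ht0]; group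
    have key : ∀ l : ↥(LJ cs h T X {0}), ∃ l' : ↥(LJ cs h T X {0}), (l' : Y) = g1⁻¹ * (l : Y) * g1 ∧
        ((∀ x, l = Φ x → l' = Φ x) ∧ ∀ x, l = τ * Φ x → l' = Φ mo * (τ * Φ x)) := by
      have a1 : ∀ x, g1⁻¹ * ((Φ x : ↥(LJ cs h T X {0})) : Y) * g1 = (Φ x : ↥(LJ cs h T X {0})) := fun x => hg1c x
      have a2 : ∀ x, g1⁻¹ * ((τ * Φ x : ↥(LJ cs h T X {0})) : Y) * g1 = (Φ mo * (τ * Φ x) : ↥(LJ cs h T X {0})) := by
        intro x
        have e1 : Φ mo * (τ * Φ x) = τ * Φ mo * Φ x := by rw [← mul_assoc, hcen]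
        rw [e1]
        change g1⁻¹ * (t1 * φ x) * g1 = t1 * φ mo * φ x
        calc g1⁻¹ * (t1 * φ x) * g1 = (g1⁻¹ * t1 * g1) * (g1⁻¹ * φ x * g1) := by group
          _ = _ := by rw [hg1t, hg1c]
      intro l
      rcases hsurj' l with ⟨x, rfl⟩ | ⟨x, rfl⟩
      · refine ⟨Φ x, (a1 x).symm, fun y hy => hy, fun y hy => ?_⟩
        apply Subtype.ext
        rw [← a1, hy, a2]
      · refine ⟨Φ mo * (τ * Φ x), (a2 x).symm, fun y hy => ?_, fun y hy => ?_⟩
        · apply Subtype.ext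
          rw [← a2, hy, a1]
        · apply Subtype.ext
          rw [← a2, hy, a2]
    have hL' : ∀ l ∈ LJ cs h T X {0}, g⁻¹ * l * g ∈ LJ cs h T X {0} := by
      intro l hl
      obtain ⟨l', h1, -⟩ := key ⟨l, hl⟩
      have h2 : g⁻¹ * l * g = t⁻¹ * (l' : Y) * t := by
        rw [h1, e]
        group
      rw [h2]
      exact mul_mem (mul_mem (inv_mem (T_le_LJ ht)) l'.2) (T_le_LJ ht)
    refine ⟨LJ cs h T X {0}, le_refl _, hL', ?_⟩
    intro hfL
    let c : ↥(LJ cs h T X {0}) →* ↥(LJ cs h T X {0}) :=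
      { toFun := fun l => ⟨g⁻¹ * l * g, hL' l l.2⟩
        map_one' := Subtype.ext (by simp)
        map_mul' := fun a b => Subtype.ext (by
          change g⁻¹ * (a * b) * g = (g⁻¹ * a * g) * (g⁻¹ * b * g)
          group) }
    have hcinj : Function.Injective c := by
      intro a b hab
      have h1 : g⁻¹ * (a : Y) * g = g⁻¹ * (b : Y) * g := congrArg Subtype.val hab
      exact Subtype.ext (mul_left_cancel (mul_right_cancel h1))
    have hcs : Function.Surjective c := Finite.surjective_of_injective hcinj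
    have hψc' := isIrr_comp c hcs hψ
    change ∑ l : ↥(LJ cs h T X {0}), ψ l * conj ((ψ ∘ c) l) = 0
    by_cases heq : ψ = ψ ∘ c
    · exfalso
      have hcv : ∀ (l l' : ↥(LJ cs h T X {0})), (l' : Y) = g1⁻¹ * (l : Y) * g1 → ψ l = ψ l' := by
        intro l l' h1
        rw [heq]
        change ψ (c l) = ψ (c l')
        have h2 : ψ (c l) = ψ l' := by
          have h3 : c l = (⟨t, T_le_LJ ht⟩ : ↥(LJ cs h T X {0}))⁻¹ * l' * ((⟨t, T_le_LJ ht⟩ : ↥(LJ cs h T X {0}))⁻¹)⁻¹ := by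
            apply Subtype.ext
            change g⁻¹ * (l : Y) * g = t⁻¹ * (l' : Y) * t⁻¹⁻¹
            rw [h1, e]
            group
          rw [h3, hcl]
        rw [h2]
        exact congrFun heq l'
      have hzero : ∀ x, ψ (τ * Φ x) = 0 := by
        intro x
        obtain ⟨l', h1, -, h2⟩ := key (τ * Φ x)
        have h3 := hcv _ _ h1
        rw [h2 x rfl, hneg] at h3
        exact self_eq_neg.1 h3
      -- the values on the root group
      have h12 : ψ (Φ (up 2)) = ψ (Φ (up 1)) := by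
        rw [← hcl (Φ (up 1)) τ]
        congr 1
        exact Subtype.ext hc1.symm
      have hsum : ψ 1 + (ψ (Φ (up 1)) + ψ (Φ (up 2))) = 0 := by
        have hfX : Fintype ((X (sr 0)).subgroupOf (LJ cs h T X {0})) := Fintype.ofFinite _
        have h1 := hψc
        let E : ZMod 3 → ↥((X (sr 0)).subgroupOf (LJ cs h T X {0})) := fun t => ⟨Φ (up t), hφ t⟩
        have hEinj : Function.Injective E := by
          intro s t hst
          have h2 : φ (up s) = φ (up t) := congrArg Subtype.val (congrArg Subtype.val hst)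
          by_contra hne
          have h3 : φ (up (s - t)) = 1 := by
            have h4 : up (s - t) * up t = up s := by rw [up_add, sub_add_cancel]
            have h5 := congrArg φ h4
            rw [map_mul, h2] at h5
            exact mul_eq_right.1 h5
          have h4 : φ (up 1) = 1 := by
            have hdec : ∀ x : ZMod 3, x ≠ 0 → x = 1 ∨ x + x = 1 := by decide
            rcases hdec (s - t) (sub_ne_zero.2 hne) with h5 | h5
            · rwa [h5] at h3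
            · rw [← h5, ← up_add, map_mul, h3, one_mul]
          exact hφ1 h4
        have hEb : Function.Bijective E := by
          rw [Nat.bijective_iff_injective_and_card]
          refine ⟨hEinj, ?_⟩
          rw [Nat.card_congr (Subgroup.subgroupOfEquivOfLe (X_le_LJ_single (0 : Fin 2))).toEquiv, hX,
            Nat.card_eq_fintype_card, ZMod.card]
        have h2 : ∑ u : (X (sr 0)).subgroupOf (LJ cs h T X {0}), ψ u = ∑ t : ZMod 3, ψ (Φ (up t)) :=
          (Fintype.sum_bijective E hEb _ _ fun t => rfl).symm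
        rw [hψc] at h2
        rw [h2]
        change _ = ∑ t : Fin 3, ψ (Φ (up t))
        rw [Fin.sum_univ_three]
        change _ = ψ (Φ (up 0)) + ψ (Φ (up 1)) + ψ (Φ (up 2))
        rw [up_zero, map_one]
        ring
      have hd : ψ 1 = (charDegree ψ : ℂ) := Cfsg.Agent.Blocks.Basic.irr_one_eq_charDegree hψ
      have hn := sum_norm (Ψ := fun x => ψ (Φ x)) (d := (charDegree ψ : ℂ))
        (fun x y => by
          rw [map_mul, map_mul, map_inv, hcl])
        (fun x => by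
          rw [map_mul, hneg])
        (by
          rw [map_one, hd])
        (Complex.conj_natCast _)
        (by
          rw [h12, hd] at hsum
          linear_combination hsum / 2)
        (by
          rw [← h12, hd] at hsum
          linear_combination hsum / 2)
      -- the whole sum
      let E : Bool × SL3 → ↥(LJ cs h T X {0}) := fun x => if x.1 then τ * Φ x.2 else Φ x.2
      have hEs : Function.Surjective E := by
        intro l
        rcases hsurj' l with ⟨x, rfl⟩ | ⟨x, rfl⟩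
        · exact ⟨(false, x), rfl⟩
        · exact ⟨(true, x), rfl⟩
      have hc48 : Nat.card (Bool × SL3) = 48 := by
        rw [Nat.card_prod, card_sl, Nat.card_eq_fintype_card, Fintype.card_bool]
      have hEb : Function.Bijective E := by
        refine Function.Surjective.bijective_of_nat_card_le hEs ?_
        rw [hc48]
        exact card_LJ_ge R hX hT
      have hcard : Nat.card ↥(LJ cs h T X {0}) = 48 := by
        rw [← Nat.card_congr (Equiv.ofBijective E hEb), hc48]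
      have h1 := classInner_irr_self hψ
      rw [classInner_def, hcard] at h1
      have h2 : ∑ l : ↥(LJ cs h T X {0}), ψ l * conj (ψ l) = ∑ x : Bool × SL3, ψ (E x) * conj (ψ (E x)) :=
        (Fintype.sum_bijective E hEb _ _ fun x => rfl).symm
      rw [Fintype.sum_prod_type, Fintype.sum_bool] at h2
      have h3 : ∑ y : SL3, ψ (E (true, y)) * conj (ψ (E (true, y))) = 0 :=
        Finset.sum_eq_zero fun y _ => by
          change ψ (τ * Φ y) * _ = 0
          rw [hzero, zero_mul]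
      have h4 : ∑ y : SL3, ψ (E (false, y)) * conj (ψ (E (false, y))) = 6 * (charDegree ψ : ℂ) ^ 2 := hn
      rw [h3, h4, zero_add] at h2
      rw [h2] at h1
      have h5 : (6 * (charDegree ψ : ℂ) ^ 2) = 48 := by
        have : ((48 : ℕ) : ℂ) ≠ 0 := by norm_num
        field_simp at h1
        linear_combination h1
      have h6 : 6 * charDegree ψ ^ 2 = 48 := by exact_mod_cast h5
      have h7 : charDegree ψ ≤ 2 := by nlinarith only [h6]
      interval_cases charDegree ψ <;> omega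
    · have h1 := classInner_irr_ne hψ hψc' heq
      rw [classInner_def, mul_eq_zero] at h1
      rcases h1 with h1 | h1
      · exfalso
        rw [inv_eq_zero, Nat.cast_eq_zero] at h1
        exact Nat.card_pos.ne' h1
      · exact h1)
  have hd : χ 1 = (charDegree χ : ℂ) := Cfsg.Agent.Blocks.Basic.irr_one_eq_charDegree hχ
  have hd' : ψ 1 = (charDegree ψ : ℂ) := Cfsg.Agent.Blocks.Basic.irr_one_eq_charDegree hψ
  have hdd : charDegree χ = (PJ cs h T X {0}).index * charDegree ψ := by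
    rw [hd, hd'] at hχ1
    exact_mod_cast hχ1
  exact ⟨⟨χ, hχ⟩, ⟨_, hdd⟩⟩

end abs

section concrete

open Cfsg.Lie Cfsg.Agent.ChevalleyStructure Cfsg.Agent.ChevalleyStructure.Elts
  Cfsg.Agent.ChevalleyStructure.RootVec Cfsg.Agent.ChevalleyStructure.RootVecTab
  Cfsg.Agent.ChevalleyStructure.NPerm Cfsg.Agent.ChevalleyStructure.CoxeterGeomTypes
open Cfsg.Agent.Nodes.RGDChev Cfsg.Agent.H35.ExcIdx GTwo

universe u

/-- root elements -/
noncomputable def xx (K : Type u) [Field K] (r : ℕ) (t : K) : ↥(chevG2.group K) :=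
  ⟨xG hpG2.inList r t, xG_mem_group hpG2.inList r t⟩

theorem tab : (∀ r ∈ [6, 5], ∀ s ∈ [9, 2], r < chevG2.nroots ∧ s < chevG2.nroots ∧ s ≠ r ∧ s ≠ chevG2.neg r ∧
    chevG2.commTerms r s = []) ∧ chevG2.neg 6 = 5 ∧ chevG2.neg 7 = 4 ∧ chevG2.cartan 1 1 = 1 ∧ chevG2.cartan 0 6 = -3 ∧
    chevG2.cartan 1 7 = -1 ∧ chevG2.cartan 1 4 = 1 ∧ chevG2.cartan 0 4 = -2 ∧ 1 < chevG2.nroots ∧ 4 < chevG2.nroots ∧
    6 < chevG2.nroots := by
  decide +kernel

theorem vecs' : vec chevG2 2 4 = -sr 0 ∧ vec chevG2 2 6 = sr 1 ∧ vec chevG2 2 1 = ![-3, -1] := by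
  refine ⟨?_, ?_, ?_⟩ <;> (funext i; revert i; decide +kernel)

/-- the `SL₂` of the short simple root -/
theorem exists_phi (K : Type u) [Field K] : ∃ φ : Matrix.SpecialLinearGroup (Fin 2) K →* ↥(chevG2.group K),
    (∀ (g : Matrix.SpecialLinearGroup (Fin 2) K) (t : K), (g : Matrix (Fin 2) (Fin 2) K) = !![1, t; 0, 1] →
      φ g = xx K 7 t) ∧
    (∀ (g : Matrix.SpecialLinearGroup (Fin 2) K) (t : K), (g : Matrix (Fin 2) (Fin 2) K) = !![1, 0; t, 1] →
      φ g = xx K 4 t) ∧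
    ∀ H : Subgroup ↥(chevG2.group K), (∀ t, xx K 7 t ∈ H) → (∀ t, xx K 4 t ∈ H) → ∀ g, φ g ∈ H := by
  have h7 : 7 < chevG2.nroots := cart3.2.2.2.2.1
  obtain ⟨φ, hr, hφ⟩ := Cfsg.Agent.S1030.result (F := K) chevG2 hpG2.inList 7 h7
  have hneg : chevG2.neg 7 = 4 := tab.2.2.1
  rw [hneg] at hr hφ
  have hle : ∀ H : Subgroup ↥(chevG2.group K), (∀ t, xx K 7 t ∈ H) → (∀ t, xx K 4 t ∈ H) →
      ∀ g, φ g ∈ H.map (chevG2.group K).subtype := by
    intro H h1 h2 g
    have h3 : φ.range ≤ H.map (chevG2.group K).subtype := by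
      rw [hr]
      refine sup_le ?_ ?_
      · intro y hy
        obtain ⟨t, rfl⟩ := (mem_rootSubgroup_iff hpG2.inList 7 y).1 hy
        exact ⟨_, h1 t, rfl⟩
      · intro y hy
        obtain ⟨t, rfl⟩ := (mem_rootSubgroup_iff hpG2.inList 4 y).1 hy
        exact ⟨_, h2 t, rfl⟩
    exact h3 ⟨g, rfl⟩
  have hmem : ∀ g, φ g ∈ chevG2.group K := by
    intro g
    obtain ⟨y, -, hy⟩ := hle ⊤ (fun _ => Subgroup.mem_top _) (fun _ => Subgroup.mem_top _) g
    rw [← hy]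
    exact y.2
  refine ⟨φ.codRestrict _ hmem, fun g t hg => ?_, fun g t hg => ?_, fun H h1 h2 g => ?_⟩
  · exact Subtype.ext (Units.ext ((hφ g t).1 hg))
  · exact Subtype.ext (Units.ext ((hφ g t).2 hg))
  · obtain ⟨y, hy1, hy2⟩ := hle H h1 h2 g
    have : φ.codRestrict _ hmem g = y := Subtype.ext hy2.symm
    rw [this]
    exact hy1

theorem nn_eq (K : Type u) [Field K] :
    (⟨nn hpG2 K 1, nn_mem_group hpG2 1⟩ : ↥(chevG2.group K)) = xx K 6 1 * (xx K 5 (-1) * xx K 6 1) := by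
  apply Subtype.ext
  change nG hpG2.inList (chevG2.simple 1) 1 = _
  rw [nG_def, inv_one]
  rfl

/-- `n_1` commutes with the root groups of `±(2 α_0 + α_1)` -/
theorem nn_comm (K : Type u) [Field K] {s : ℕ} (hs : s ∈ [9, 2]) (t : K) :
    (⟨nn hpG2 K 1, nn_mem_group hpG2 1⟩ : ↥(chevG2.group K)) * xx K s t =
      xx K s t * ⟨nn hpG2 K 1, nn_mem_group hpG2 1⟩ := by
  have h1 : ∀ r ∈ [6, 5], ∀ u : K, Commute (xx K r u) (xx K s t) := by
    intro r hr u
    obtain ⟨k1, k2, k3, k4, k5⟩ := tab.1 r hr s hs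
    exact Subtype.ext (Cfsg.Agent.Nodes.RGDFold.commute_of_nil hpG2 k1 k2 k3 k4 k5 u t).eq
  rw [nn_eq]
  exact (((h1 6 (by simp) 1)).mul_left ((h1 5 (by simp) (-1)).mul_left (h1 6 (by simp) 1))).eq

theorem hh_zero_eq {K : Type u} [Field K] {φ : Matrix.SpecialLinearGroup (Fin 2) K →* ↥(chevG2.group K)}
    (h1 : ∀ (g : Matrix.SpecialLinearGroup (Fin 2) K) (t : K), (g : Matrix (Fin 2) (Fin 2) K) = !![1, t; 0, 1] →
      φ g = xx K 7 t)
    (h2 : ∀ (g : Matrix.SpecialLinearGroup (Fin 2) K) (t : K), (g : Matrix (Fin 2) (Fin 2) K) = !![1, 0; t, 1] →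
      φ g = xx K 4 t) {g : Matrix.SpecialLinearGroup (Fin 2) K} {c : K} (hc : c ≠ 0)
    (hg : (g : Matrix (Fin 2) (Fin 2) K) = !![c, 0; 0, c⁻¹]) : φ g = hh K 0 c := by
  let up : K → Matrix.SpecialLinearGroup (Fin 2) K := fun t => ⟨!![1, t; 0, 1], by simp [Matrix.det_fin_two]⟩
  let lo : K → Matrix.SpecialLinearGroup (Fin 2) K := fun t => ⟨!![1, 0; t, 1], by simp [Matrix.det_fin_two]⟩
  have hu : ∀ t, xx K 7 t = φ (up t) := fun t => (h1 (up t) t rfl).symm
  have hv : ∀ t, xx K 4 t = φ (lo t) := fun t => (h2 (lo t) t rfl).symm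
  have hn : ∀ t, (⟨nG hpG2.inList 7 t, nG_mem_group hpG2.inList 7 t⟩ : ↥(chevG2.group K)) =
      φ (up t * lo (-t⁻¹) * up t) := fun t => by
    rw [map_mul, map_mul, ← hu, ← hv, mul_assoc]
    apply Subtype.ext
    change nG hpG2.inList 7 t = _
    rw [nG_def]
    rfl
  have h3 : hh K 0 c = φ (up c * lo (-c⁻¹) * up c * (up (-1) * lo (-(-1)⁻¹) * up (-1))) := by
    rw [map_mul, ← hn, ← hn]
    apply Subtype.ext
    change hG hpG2.inList 7 c = _
    rw [hG_def]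
    rfl
  rw [h3]
  congr 1
  apply Subtype.ext
  rw [hg]
  change _ = (!![1, c; 0, 1] * !![1, 0; -c⁻¹, 1] * !![1, c; 0, 1] *
      (!![1, -1; 0, 1] * !![1, 0; -(-1)⁻¹, 1] * !![1, -1; 0, 1]) : Matrix (Fin 2) (Fin 2) K)
  ext i j
  (revert i j; simp [hc, _root_.Fin.forall_fin_succ])

local instance fact_three : Fact (Nat.Prime 3) := ⟨Nat.prime_three⟩

theorem card_T : Nat.card (TT chevG2 (ZMod 3)) = 4 := by
  have h1 := Cfsg.Agent.S1035.result (F := ZMod 3) rfl (chevG2, 1) (by simp)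
  rw [one_mul, ZMod.card] at h1
  have h2 : Nat.card (TT chevG2 (ZMod 3)) = Nat.card (chevG2.diagonalSubgroup (ZMod 3)) := by
    refine Nat.card_congr (Subgroup.subgroupOfEquivOfLe ?_).toEquiv
    exact diagonal_le_group hpG2.inList _
  rw [h2]
  exact h1

theorem zp : (-1 : ZMod 3) ^ (-3 : ℤ) ≠ 1 ∧ (-1 : ZMod 3) ^ (-1 : ℤ) ≠ 1 ∧ (-1 : ZMod 3) ^ (1 : ℤ) ≠ 1 ∧
    (-1 : ZMod 3) ^ (2 : ℤ) = 1 := by
  have h1 : (-1 : ZMod 3) ≠ 1 := by decide
  refine ⟨?_, ?_, ?_, ?_⟩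
  · rwa [Odd.neg_one_zpow (by decide)]
  · rwa [Odd.neg_one_zpow (by decide)]
  · rwa [Odd.neg_one_zpow (by decide)]
  · rw [Even.neg_one_zpow (by decide)]

/-- an element acting non-trivially on a root group -/
theorem hh_comm_iff {i : Fin 2} {s : ℕ} (hs : s < chevG2.nroots) {t : ZMod 3} (ht : t ≠ 0) :
    hh (ZMod 3) i (-1) * xx (ZMod 3) s t = xx (ZMod 3) s t * hh (ZMod 3) i (-1) ↔
      (-1 : ZMod 3) ^ (chevG2.cartan i s) = 1 := by
  constructor
  · intro h1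
    by_contra h2
    exact ht (free hs (neg_ne_zero.2 one_ne_zero) h2 h1)
  · intro h1
    have := hh_xG i hs (c := (-1 : ZMod 3)) (neg_ne_zero.2 one_ne_zero) t
    rw [h1, one_mul] at this
    exact this

theorem mem_T_iff {x : ↥(chevG2.group (ZMod 3))} (hx : x ∈ TT chevG2 (ZMod 3)) :
    x = 1 ∨ x = hh (ZMod 3) 0 (-1) ∨ x = hh (ZMod 3) 1 (-1) ∨ x = hh (ZMod 3) 1 (-1) * hh (ZMod 3) 0 (-1) := by
  classical
  have : Fintype (TT chevG2 (ZMod 3)) := Fintype.ofFinite _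
  have hne : (-1 : ZMod 3) ≠ 0 := neg_ne_zero.2 one_ne_zero
  obtain ⟨t0, t1, t2, t3, t4, t5, t6, t7, t8, t9, t10⟩ := tab
  obtain ⟨d1, d2, d3, d4⟩ := cart2
  have h7 : 7 < chevG2.nroots := cart3.2.2.2.2.1
  have hz0 : hh (ZMod 3) 0 (-1) ≠ 1 := by
    intro h1
    have h2 := (hh_comm_iff (i := 0) (s := 6) t10 (t := 1) one_ne_zero).1 (by rw [h1, one_mul, mul_one])
    change (-1 : ZMod 3) ^ (chevG2.cartan 0 6) = 1 at h2
    rw [t4] at h2
    exact zp.1 h2
  have ht0 : hh (ZMod 3) 1 (-1) ≠ 1 := by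
    intro h1
    have h2 := (hh_comm_iff (i := 1) (s := 7) h7 (t := 1) one_ne_zero).1 (by rw [h1, one_mul, mul_one])
    change (-1 : ZMod 3) ^ (chevG2.cartan 1 7) = 1 at h2
    rw [t5] at h2
    exact zp.2.1 h2
  have hzt : hh (ZMod 3) 0 (-1) ≠ hh (ZMod 3) 1 (-1) := by
    intro h1
    have h2 := (hh_comm_iff (i := 1) (s := 7) h7 (t := 1) one_ne_zero).1 (by
      rw [← h1]
      refine (hh_comm_iff (i := 0) (s := 7) h7 (t := 1) one_ne_zero).2 ?_
      change (-1 : ZMod 3) ^ (chevG2.cartan 0 7) = 1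
      rw [d3]
      exact zp.2.2.2)
    change (-1 : ZMod 3) ^ (chevG2.cartan 1 7) = 1 at h2
    rw [t5] at h2
    exact zp.2.1 h2
  have hz2 : hh (ZMod 3) 0 (-1) * hh (ZMod 3) 0 (-1) = 1 := by
    rw [hh_mul 0 hne hne, neg_mul_neg, one_mul, hh_one]
  by_contra hcon
  push Not at hcon
  obtain ⟨c1, c2, c3, c4⟩ := hcon
  let S : Finset ↥(chevG2.group (ZMod 3)) := {x, 1, hh (ZMod 3) 0 (-1), hh (ZMod 3) 1 (-1),
    hh (ZMod 3) 1 (-1) * hh (ZMod 3) 0 (-1)}
  have hS : S.card = 5 := by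
    have k1 : hh (ZMod 3) 1 (-1) * hh (ZMod 3) 0 (-1) ≠ 1 := by
      intro h1
      apply hzt
      rw [eq_comm, ← mul_left_inj (hh (ZMod 3) 0 (-1)), h1, hz2]
    have k2 : hh (ZMod 3) 1 (-1) * hh (ZMod 3) 0 (-1) ≠ hh (ZMod 3) 0 (-1) := by
      intro h1
      exact ht0 (mul_eq_right.1 h1)
    have k3 : hh (ZMod 3) 1 (-1) * hh (ZMod 3) 0 (-1) ≠ hh (ZMod 3) 1 (-1) := by
      intro h1
      exact hz0 (mul_eq_left.1 h1)
    simp only [S]
    rw [Finset.card_insert_of_notMem, Finset.card_insert_of_notMem, Finset.card_insert_of_notMem,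
      Finset.card_insert_of_notMem, Finset.card_singleton]
    · simp only [Finset.mem_singleton]
      exact k3.symm
    · simp only [Finset.mem_insert, Finset.mem_singleton, not_or]
      exact ⟨hzt, k2.symm⟩
    · simp only [Finset.mem_insert, Finset.mem_singleton, not_or]
      exact ⟨hz0.symm, ht0.symm, k1.symm⟩
    · simp only [Finset.mem_insert, Finset.mem_singleton, not_or]
      exact ⟨c1, c2, c3, c4⟩
  have h1 : (S : Set ↥(chevG2.group (ZMod 3))) ⊆ (TT chevG2 (ZMod 3) : Set ↥(chevG2.group (ZMod 3))) := by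
    intro y hy
    simp only [S, Finset.coe_insert, Finset.coe_singleton, Set.mem_insert_iff, Set.mem_singleton_iff] at hy
    rcases hy with rfl | rfl | rfl | rfl | rfl
    · exact hx
    · exact one_mem _
    · exact hh_mem 0 hne
    · exact hh_mem 1 hne
    · exact mul_mem (hh_mem 1 hne) (hh_mem 0 hne)
  have h2 := Nat.card_mono (Set.toFinite _) h1
  rw [Nat.card_coe_set_eq, Set.ncard_coe_finset, hS] at h2
  have h3 : Nat.card ↑(TT chevG2 (ZMod 3) : Set ↥(chevG2.group (ZMod 3))) = 4 := card_T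
  omega

/-- the images of the representatives -/
theorem conj_gen {K : Type u} [Field K] [Finite K] {p : ℕ} [Fact p.Prime] [CharP K p]
    {w : CoxeterMatrix.G₂.Group} {g : ↥(chevG2.group K)}
    (hg : Rp CoxeterMatrix.G₂.toCoxeterSystem (rgd (K := K) hpG2 CoxeterMatrix.G₂.toCoxeterSystem p).nsys w g)
    {r s : ℕ} (hr : r < chevG2.nroots) (hs : s < chevG2.nroots)
    (he : rep CoxeterMatrix.G₂.toCoxeterSystem hpG2.isCartan w (vec chevG2 2 r) = vec chevG2 2 s) (t : K) :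
    ∃ t', g * xx K r t * g⁻¹ = xx K s t' := by
  have R := rgd (K := K) hpG2 CoxeterMatrix.G₂.toCoxeterSystem p
  have h1 : xx K r t ∈ XX chevG2 2 K (vec chevG2 2 r) := (mem_XX hr rfl).2 ⟨t, rfl⟩
  have h2 := R.conj_mem hg ((isRoot_iff hpG2 CoxeterMatrix.G₂.toCoxeterSystem _).2 ⟨r, hr, rfl⟩) h1
  rw [he] at h2
  exact (mem_XX hs rfl).1 h2

/-- **An irreducible character of `G₂(3)` of degree divisible by `364`.** -/
theorem char_three : ∃ χ : IrrCharacter ↥(chevG2.group (ZMod 3)), 364 ∣ charDegree (χ : ↥(chevG2.group (ZMod 3)) → ℂ) := by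
  classical
  have hfin := finite_W hpG2 CoxeterMatrix.G₂.toCoxeterSystem
  have R := rgd (K := ZMod 3) hpG2 CoxeterMatrix.G₂.toCoxeterSystem 3
  have hne : (-1 : ZMod 3) ≠ 0 := neg_ne_zero.2 one_ne_zero
  obtain ⟨hx9, hx2, hx7⟩ := vecs
  obtain ⟨hx4, hx6, hx1⟩ := vecs'
  obtain ⟨k1, k2⟩ := GTwo.cart
  obtain ⟨d1, d2, d3, d4⟩ := cart2
  obtain ⟨g1, g2, g3, g4, g5, g6, g7⟩ := cart3
  obtain ⟨t0, t1, t2, t3, t4, t5, t6, t7, t8, t9, t10⟩ := tab
  obtain ⟨φ, f1, f2, f3⟩ := exists_phi (ZMod 3)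
  have hA : cartanOf chevG2 2 0 1 * cartanOf chevG2 2 1 0 = 3 := by rw [k1, k2]; norm_num
  have hmo : φ mo = hh (ZMod 3) 0 (-1) := by
    refine hh_zero_eq f1 f2 hne ?_
    change !![-1, 0; 0, -1] = !![-1, 0; 0, (-1)⁻¹]
    rw [inv_neg, inv_one]
  have hup : ∀ t, φ (up t) = xx (ZMod 3) 7 t := fun t => f1 _ t rfl
  have hX7 : ∀ t, xx (ZMod 3) 7 t ∈ XX chevG2 2 (ZMod 3) (sr 0) := fun t => (mem_XX g5 hx7).2 ⟨t, rfl⟩
  have hX4 : ∀ t, xx (ZMod 3) 4 t ∈ XX chevG2 2 (ZMod 3) (-sr 0) := fun t => (mem_XX t9 hx4).2 ⟨t, rfl⟩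
  have ht17 : ∀ t, hh (ZMod 3) 1 (-1) * xx (ZMod 3) 7 t * (hh (ZMod 3) 1 (-1))⁻¹ = xx (ZMod 3) 7 (-t) := by
    intro t
    rw [mul_inv_eq_iff_eq_mul]
    have h1 := hh_xG 1 g5 hne t
    change hh (ZMod 3) 1 (-1) * xx (ZMod 3) 7 t = xx (ZMod 3) 7 ((-1) ^ (chevG2.cartan 1 7) * t) * _ at h1
    rw [h1, t5]
    congr 2
    rw [zpow_neg, zpow_one, inv_neg, inv_one, neg_one_mul]
  have ht14 : ∀ t, hh (ZMod 3) 1 (-1) * xx (ZMod 3) 4 t * (hh (ZMod 3) 1 (-1))⁻¹ = xx (ZMod 3) 4 (-t) := by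
    intro t
    rw [mul_inv_eq_iff_eq_mul]
    have h1 := hh_xG 1 t9 hne t
    change hh (ZMod 3) 1 (-1) * xx (ZMod 3) 4 t = xx (ZMod 3) 4 ((-1) ^ (chevG2.cartan 1 4) * t) * _ at h1
    rw [h1, t6]
    congr 2
    rw [zpow_one, neg_one_mul]
  have ht2 : hh (ZMod 3) 1 (-1) * hh (ZMod 3) 1 (-1) = 1 := by
    rw [hh_mul 1 hne hne, neg_mul_neg, one_mul, hh_one]
  have htinv : (hh (ZMod 3) 1 (-1))⁻¹ = hh (ZMod 3) 1 (-1) := inv_eq_of_mul_eq_one_left ht2
  have hr7 : ∀ t, xx (ZMod 3) 7 t ∈ φ.range := fun t => ⟨up t, hup t⟩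
  have hr4 : ∀ t, xx (ZMod 3) 4 t ∈ φ.range := fun t =>
    ⟨⟨!![1, 0; t, 1], by simp [Matrix.det_fin_two]⟩, f2 _ t rfl⟩
  have hconj : ∀ g, ∃ g', hh (ZMod 3) 1 (-1) * φ g * (hh (ZMod 3) 1 (-1))⁻¹ = φ g' := by
    intro g
    have h1 := f3 (φ.range.comap (MulAut.conj (hh (ZMod 3) 1 (-1))).toMonoidHom)
      (fun t => by
        rw [Subgroup.mem_comap]
        change hh (ZMod 3) 1 (-1) * xx (ZMod 3) 7 t * (hh (ZMod 3) 1 (-1))⁻¹ ∈ _
        rw [ht17]
        exact hr7 _)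
      (fun t => by
        rw [Subgroup.mem_comap]
        change hh (ZMod 3) 1 (-1) * xx (ZMod 3) 4 t * (hh (ZMod 3) 1 (-1))⁻¹ ∈ _
        rw [ht14]
        exact hr4 _) g
    obtain ⟨g', hg'⟩ := h1
    exact ⟨g', hg'.symm⟩
  let L2 : Subgroup ↥(chevG2.group (ZMod 3)) :=
    { carrier := {x | (∃ g, x = φ g) ∨ ∃ g, x = hh (ZMod 3) 1 (-1) * φ g}
      one_mem' := Or.inl ⟨1, (map_one φ).symm⟩
      mul_mem' := by
        rintro a b (⟨x, rfl⟩ | ⟨x, rfl⟩) (⟨y, rfl⟩ | ⟨y, rfl⟩)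
        · exact Or.inl ⟨x * y, (map_mul φ x y).symm⟩
        · right
          obtain ⟨x', hx'⟩ := hconj x
          refine ⟨x' * y, ?_⟩
          rw [map_mul, ← hx', htinv]
          calc φ x * (hh (ZMod 3) 1 (-1) * φ y) =
              (hh (ZMod 3) 1 (-1) * hh (ZMod 3) 1 (-1)) * φ x * (hh (ZMod 3) 1 (-1) * φ y) := by rw [ht2, one_mul]
            _ = _ := by group
        · right
          exact ⟨x * y, by rw [map_mul, mul_assoc]⟩
        · left
          obtain ⟨x', hx'⟩ := hconj x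
          refine ⟨x' * y, ?_⟩
          rw [map_mul, ← hx', htinv]
          group
      inv_mem' := by
        rintro a (⟨x, rfl⟩ | ⟨x, rfl⟩)
        · exact Or.inl ⟨x⁻¹, (map_inv φ x).symm⟩
        · right
          obtain ⟨x', hx'⟩ := hconj x⁻¹
          refine ⟨x', ?_⟩
          rw [← hx', htinv, map_inv, mul_inv_rev, htinv, ← mul_assoc, ← mul_assoc, ht2, one_mul] }
  have hLle : LJ CoxeterMatrix.G₂.toCoxeterSystem hpG2.isCartan (TT chevG2 (ZMod 3)) (XX chevG2 2 (ZMod 3)) {0} ≤ L2 := by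
    refine sup_le ?_ (RGD.Sup_le fun x hx => ?_)
    · intro t ht
      rcases mem_T_iff ht with rfl | rfl | rfl | rfl
      · exact one_mem _
      · exact Or.inl ⟨mo, hmo.symm⟩
      · exact Or.inr ⟨1, by rw [map_one, mul_one]⟩
      · exact Or.inr ⟨mo, by rw [hmo]⟩
    · rcases hx.1.pos_or_neg with h0 | h0
      · have h2 : x = sr 0 := by
          have : x ∈ PosJ CoxeterMatrix.G₂.toCoxeterSystem hpG2.isCartan {0} := ⟨hx.1, h0, hx.2⟩
          rw [PosJ_single] at this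
          exact this
        intro u hu
        rw [h2] at hu
        obtain ⟨t, rfl⟩ := (mem_XX g5 hx7).1 hu
        exact Or.inl ⟨up t, (hup t).symm⟩
      · have h2 : x = -sr 0 := by
          have : -x ∈ PosJ CoxeterMatrix.G₂.toCoxeterSystem hpG2.isCartan {0} := ⟨hx.1.neg, neg_nonneg.2 h0, fun k hk => by
            rw [Pi.neg_apply, hx.2 k hk, neg_zero]⟩
          rw [PosJ_single] at this
          rw [← Set.mem_singleton_iff.1 this, _root_.neg_neg]
        intro u hu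
        rw [h2] at hu
        obtain ⟨t, rfl⟩ := (mem_XX t9 hx4).1 hu
        obtain ⟨g, hg⟩ := hr4 t
        exact Or.inl ⟨g, hg.symm⟩
  -- the reflection
  let n0 : ↥(chevG2.group (ZMod 3)) := ⟨nn hpG2 (ZMod 3) 0, nn_mem_group hpG2 0⟩
  let n1 : ↥(chevG2.group (ZMod 3)) := ⟨nn hpG2 (ZMod 3) 1, nn_mem_group hpG2 1⟩
  have hm : Rp CoxeterMatrix.G₂.toCoxeterSystem R.nsys (CoxeterMatrix.G₂.toCoxeterSystem.simple 1 *
      CoxeterMatrix.G₂.toCoxeterSystem.simple 0) (n1 * n0) :=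
    (rp_simple _ R.nsys 1).mul (rp_simple _ R.nsys 0)
  have hgg : Rp CoxeterMatrix.G₂.toCoxeterSystem R.nsys (vv CoxeterMatrix.G₂.toCoxeterSystem)
      ((n1 * n0) * n1 * (n1 * n0)⁻¹) := (hm.mul (rp_simple _ R.nsys 1)).mul hm.inv
  have hcomm : ∀ g, ((n1 * n0) * n1 * (n1 * n0)⁻¹)⁻¹ * φ g * ((n1 * n0) * n1 * (n1 * n0)⁻¹) = φ g := by
    have hgen : ∀ r s, r < chevG2.nroots → s < chevG2.nroots → s ∈ [9, 2] →
        rep CoxeterMatrix.G₂.toCoxeterSystem hpG2.isCartan (CoxeterMatrix.G₂.toCoxeterSystem.simple 1 *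
          CoxeterMatrix.G₂.toCoxeterSystem.simple 0)⁻¹ (vec chevG2 2 r) = vec chevG2 2 s → ∀ t,
        xx (ZMod 3) r t ∈ Subgroup.centralizer {(n1 * n0) * n1 * (n1 * n0)⁻¹} := by
      intro r s hr hs hs' he t
      obtain ⟨t', ht'⟩ := conj_gen hm.inv hr hs he t
      rw [inv_inv] at ht'
      rw [Subgroup.mem_centralizer_singleton_iff]
      have h1 := nn_comm (ZMod 3) hs' t'
      rw [← ht'] at h1
      change n1 * ((n1 * n0)⁻¹ * xx (ZMod 3) r t * (n1 * n0)) = (n1 * n0)⁻¹ * xx (ZMod 3) r t * (n1 * n0) * n1 at h1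
      calc xx (ZMod 3) r t * (n1 * n0 * n1 * (n1 * n0)⁻¹) =
            (n1 * n0) * ((n1 * n0)⁻¹ * xx (ZMod 3) r t * (n1 * n0) * n1) * (n1 * n0)⁻¹ := by group
        _ = (n1 * n0) * (n1 * ((n1 * n0)⁻¹ * xx (ZMod 3) r t * (n1 * n0))) * (n1 * n0)⁻¹ := by rw [h1]
        _ = _ := by group
    have hv : rep CoxeterMatrix.G₂.toCoxeterSystem hpG2.isCartan (CoxeterMatrix.G₂.toCoxeterSystem.simple 1 *
          CoxeterMatrix.G₂.toCoxeterSystem.simple 0)⁻¹ (sr 0) = ![2, 1] := by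
      rw [rep_inv_zero hA, k2, _root_.neg_neg]
    intro g
    have h1 := f3 (Subgroup.centralizer {(n1 * n0) * n1 * (n1 * n0)⁻¹})
      (hgen 7 9 g5 g3 (by simp) (by rw [hx7, hx9, hv]))
      (hgen 4 2 t9 g4 (by simp) (by rw [hx4, hx2, map_neg, hv])) g
    rw [Subgroup.mem_centralizer_singleton_iff] at h1
    rw [mul_assoc, h1, inv_mul_cancel_left]
  have hgt : ((n1 * n0) * n1 * (n1 * n0)⁻¹)⁻¹ * hh (ZMod 3) 1 (-1) * ((n1 * n0) * n1 * (n1 * n0)⁻¹) =
      hh (ZMod 3) 1 (-1) * φ mo := by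
    have hmem : ((n1 * n0) * n1 * (n1 * n0)⁻¹)⁻¹ * hh (ZMod 3) 1 (-1) * ((n1 * n0) * n1 * (n1 * n0)⁻¹) ∈
        TT chevG2 (ZMod 3) := by
      have h1 := (mem_normalizer_iff_cj.1 hgg.inv.mem_normalizer)
      have h2 : ((n1 * n0) * n1 * (n1 * n0)⁻¹)⁻¹ * hh (ZMod 3) 1 (-1) * ((n1 * n0) * n1 * (n1 * n0)⁻¹)⁻¹⁻¹ ∈
        cj ((n1 * n0) * n1 * (n1 * n0)⁻¹)⁻¹ (TT chevG2 (ZMod 3)) := conj_mem_cj.2 (hh_mem 1 hne)
      rwa [h1, inv_inv] at h2
    generalize hgdef : (n1 * n0) * n1 * (n1 * n0)⁻¹ = gg at *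
    rcases mem_T_iff hmem with h1 | h1 | h1 | h1
    · exfalso
      have h2 : hh (ZMod 3) 1 (-1) = 1 := by
        have h3 : hh (ZMod 3) 1 (-1) = gg * (gg⁻¹ * hh (ZMod 3) 1 (-1) * gg) * gg⁻¹ := by group
        rw [h3, h1, mul_one, mul_inv_cancel]
      have h3 := (hh_comm_iff (i := 1) (s := 7) g5 (t := 1) one_ne_zero).1 (by rw [h2, one_mul, mul_one])
      change (-1 : ZMod 3) ^ (chevG2.cartan 1 7) = 1 at h3
      rw [t5] at h3
      exact zp.2.1 h3
    · exfalso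
      have h2 : hh (ZMod 3) 1 (-1) = hh (ZMod 3) 0 (-1) := by
        have h3 : hh (ZMod 3) 1 (-1) = gg * (gg⁻¹ * hh (ZMod 3) 1 (-1) * gg) * gg⁻¹ := by group
        have h4 : gg⁻¹ * hh (ZMod 3) 0 (-1) * gg = hh (ZMod 3) 0 (-1) := by
          rw [← hmo]
          exact hcomm mo
        rw [h3, h1]
        nth_rw 1 [← h4]
        group
      have h3 := (hh_comm_iff (i := 1) (s := 7) g5 (t := 1) one_ne_zero).1 (by
        rw [h2]
        refine (hh_comm_iff (i := 0) (s := 7) g5 (t := 1) one_ne_zero).2 ?_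
        change (-1 : ZMod 3) ^ (chevG2.cartan 0 7) = 1
        rw [d3]
        exact zp.2.2.2)
      change (-1 : ZMod 3) ^ (chevG2.cartan 1 7) = 1 at h3
      rw [t5] at h3
      exact zp.2.1 h3
    · exfalso
      obtain ⟨t', ht'⟩ := conj_gen hgg t10 t8 (t := 1) (by
        rw [hx6, hx1, rep_vv hA, sr_one_eq, k1]
        simp)
      have ht'0 : t' ≠ 0 := by
        rintro rfl
        have h2 : xx (ZMod 3) 1 0 = 1 := Subtype.ext (xG_zero hpG2.inList 1)
        rw [h2, mul_inv_eq_one, mul_eq_left] at ht'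
        exact one_ne_zero (xG_injective hpG2.inList t10 ((congrArg Subtype.val ht').trans
          (xG_zero hpG2.inList 6).symm))
      have h2 := (hh_comm_iff (i := 1) (s := 6) t10 (t := 1) one_ne_zero).2 (by
        change (-1 : ZMod 3) ^ (chevG2.cartan 1 6) = 1
        rw [d4]
        exact zp.2.2.2)
      have h3 := (hh_comm_iff (i := 1) (s := 1) t8 (t := t') ht'0).1 (by
        rw [← ht']
        have h4 : hh (ZMod 3) 1 (-1) * gg = gg * hh (ZMod 3) 1 (-1) := by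
          calc hh (ZMod 3) 1 (-1) * gg = gg * (gg⁻¹ * hh (ZMod 3) 1 (-1) * gg) := by group
            _ = _ := by rw [h1]
        have h5 : gg⁻¹ * hh (ZMod 3) 1 (-1) = hh (ZMod 3) 1 (-1) * gg⁻¹ := by
          rw [inv_mul_eq_iff_eq_mul, ← mul_assoc, ← h4, mul_inv_cancel_right]
        calc hh (ZMod 3) 1 (-1) * (gg * xx (ZMod 3) 6 1 * gg⁻¹) =
              (hh (ZMod 3) 1 (-1) * gg) * xx (ZMod 3) 6 1 * gg⁻¹ := by group
          _ = gg * (hh (ZMod 3) 1 (-1) * xx (ZMod 3) 6 1) * gg⁻¹ := by rw [h4]; group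
          _ = gg * xx (ZMod 3) 6 1 * (hh (ZMod 3) 1 (-1) * gg⁻¹) := by rw [h2]; group
          _ = _ := by rw [← h5]; group)
      change (-1 : ZMod 3) ^ (chevG2.cartan 1 1) = 1 at h3
      rw [t3] at h3
      exact zp.2.2.1 h3
    · rw [h1, hmo]
  have hLX7 : ∀ t, xx (ZMod 3) 7 t ∈ LJ CoxeterMatrix.G₂.toCoxeterSystem hpG2.isCartan (TT chevG2 (ZMod 3))
      (XX chevG2 2 (ZMod 3)) {0} := fun t => X_le_LJ_single 0 (hX7 t)
  have hLX4 : ∀ t, xx (ZMod 3) 4 t ∈ LJ CoxeterMatrix.G₂.toCoxeterSystem hpG2.isCartan (TT chevG2 (ZMod 3))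
      (XX chevG2 2 (ZMod 3)) {0} := by
    intro t
    refine X_le_LJ ?_ (hX4 t)
    exact RootsJ.neg (PosJ_subset _ (sr_mem_PosJ (Set.mem_singleton 0)))
  have hz1 : φ mo ≠ 1 := by
    rw [hmo]
    intro h1
    have h2 := (hh_comm_iff (i := 0) (s := 6) t10 (t := 1) one_ne_zero).1 (by rw [h1, one_mul, mul_one])
    change (-1 : ZMod 3) ^ (chevG2.cartan 0 6) = 1 at h2
    rw [t4] at h2
    exact zp.1 h2
  have hcen : ∀ g, φ mo * φ g = φ g * φ mo := fun g => by rw [← map_mul, mo_comm, map_mul]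
  obtain ⟨χ, hχ⟩ := exists_chi_three R (GG_eq_top hpG2 (ZMod 3) _) TT_comm hA
    (by
      rw [card_XX hpG2 (ZMod 3) CoxeterMatrix.G₂.toCoxeterSystem (isRoot_sr _ hpG2.isCartan 0), Nat.card_eq_fintype_card,
        ZMod.card])
    card_T φ (fun t => by rw [hup]; exact hX7 t)
    (by
      rw [hup]
      intro h1
      exact one_ne_zero (xG_injective hpG2.inList g5 ((congrArg Subtype.val h1).trans (xG_zero hpG2.inList 7).symm)))
    (f3 _ hLX7 hLX4)
    (mem_CT.2 ⟨by rw [hmo]; exact hh_mem 0 hne, fun u hu => by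
      obtain ⟨t, rfl⟩ := (mem_XX g5 hx7).1 hu
      obtain ⟨g, hg⟩ := hr7 t
      change φ mo * xx (ZMod 3) 7 t = xx (ZMod 3) 7 t * φ mo
      rw [← hg, hcen], fun u hu => by
      obtain ⟨t, rfl⟩ := (mem_XX t9 hx4).1 hu
      obtain ⟨g, hg⟩ := hr4 t
      change φ mo * xx (ZMod 3) 4 t = xx (ZMod 3) 4 t * φ mo
      rw [← hg, hcen]⟩)
    hz1 (hh_mem 1 hne) (by
      rw [hup, hup, ht17]
      rfl) (fun l hl => hLle hl) hgg hcomm hgt
  have h6 := index_eq' (K := ZMod 3)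
  rw [ZMod.card] at h6
  rw [h6] at hχ
  exact ⟨χ, hχ⟩

/-- **The big character of `G₂(3)`.** -/
theorem big_three : ∃ χ : IrrCharacter ↥(chevG2.group (ZMod 3)),
    ∀ ℓ : ℕ, ℓ.Prime → ℓ ∣ Nat.card ↥(chevG2.group (ZMod 3)) → ¬ ℓ ∣ 3 →
      ℓ ∣ charDegree (χ : ↥(chevG2.group (ZMod 3)) → ℂ) := by
  obtain ⟨χ, hχ⟩ := char_three
  refine ⟨χ, fun ℓ hℓ hd hq => ?_⟩
  rw [Cfsg.Agent.S1059.result (q := 3) (by rw [ZMod.card])] at hd
  rcases arith (by norm_num) hℓ hd hq with h3 | ⟨h3, h5⟩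
  · exact h3.trans hχ
  · exact absurd ((Nat.prime_dvd_prime_iff_eq hℓ Nat.prime_two).1 h5) h3

end concrete

end Cfsg.Agent.H115.HC.GThree

private theorem dce_8512d98c4f9b : _root_.True := by
  try have : _root_.True := by simp only [_root_.Cfsg.Agent.Nodes.Bruhat.LJ.congr_simp]
  exact _root_.True.intro
end
end
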