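import Cfsg.Agent.H115.HC.RankTwo
import Cfsg.Agent.H35.ExcIdxTw_m3
import Cfsg.Agent.H554.RGNo
import Cfsg.Agent.GpExc.Rank
import Cfsg.Agent.BiChar.TwDFour
import Cfsg.Agent.ChevalleyStructure.D4U
import Cfsg.Agent.S1067
import Cfsg.Agent.Prune
set_option linter.all false
prune_inst 0x7f00000000000000000000000000000000000000000000000000000000000000000000000000000000000000000000000000000000000000000000000000000000000000000000000000000000000000003fffffffffffffffffffffffffffbeffbdffffffff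
open scoped Cfsg.Agent.FastGrp

/-!
# The big character of `³D₄(q)` (helper115, TEAM DEG)

`big` : `twistedD4 K q` has an irreducible character whose degree is divisible by all primes dividing the order of the
group other than the characteristic.
-/

set_option autoImplicit false
set_option linter.unusedSectionVars false

open Cfsg

namespace Cfsg.Agent.H115.HC.TwDFour

open CoxeterSystem Cfsg.Agent.ChevalleyStructure.CoxeterGeom Cfsg.Agent.Tits.Roots Cfsg.Agent.Tits.Core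
  Cfsg.Agent.Tits.RootComb Cfsg.Agent.Nodes.Comb Cfsg.Agent.Nodes.Reps Cfsg.Agent.Nodes.BNOf
  Cfsg.Agent.Nodes.BNOf.RGD Cfsg.Agent.Nodes.RGDChev Cfsg.Agent.Nodes.RGDFold
open Cfsg.Agent.Nodes.Bruhat Cfsg.Agent.Nodes.LeviDec
open Cfsg.Lie Cfsg.Agent.ChevalleyStructure Cfsg.Agent.ChevalleyStructure.TwistedU
open Cfsg.Agent.Nodes.RGDFoldSL
open Cfsg.Agent.ChevalleyStructure.SL2Hom (up lo mem_closure_SL2)
open Cfsg.Agent.BiChar.TwDFour

/-- the highest relative root -/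
theorem cls_hi : ∀ k < chevD4.nroots, (V chevD4 Nodes.RGDTwD4.J k = ![2, 3] ↔ k ∈ [23]) := by decide +kernel

theorem cls_hi' : ∀ k < chevD4.nroots, (V chevD4 Nodes.RGDTwD4.J k = -![2, 3] ↔ k ∈ [0]) := by decide +kernel

theorem comm_check : ∀ s ∈ [23, 0], ∀ r ∈ [18, 13, 12, 5, 10, 11], r < chevD4.nroots ∧ s < chevD4.nroots ∧ s ≠ r ∧
    s ≠ chevD4.neg r ∧ chevD4.commTerms r s = [] := by decide +kernel

theorem comm_xG {K : Type*} [Field K] {s : ℕ} (hs : s ∈ [23, 0]) {r : ℕ} (hr : r ∈ [18, 13, 12, 5, 10, 11]) (t u : K) :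
    Elts.xG Nodes.RGDTwD4.hp.inList s u * Elts.xG Nodes.RGDTwD4.hp.inList r t =
      Elts.xG Nodes.RGDTwD4.hp.inList r t * Elts.xG Nodes.RGDTwD4.hp.inList s u := by
  obtain ⟨h1, h0, h2, h3, h4⟩ := comm_check s hs r hr
  have h5 := Nodes.RGDChev.comm_xG Nodes.RGDTwD4.hp h1 h0 h2 h3 (-t) (-u)
  have h6 : chevD4.commWord K r s (-t) (-u) = [] := by
    show (chevD4.commTerms r s).map _ = []
    rw [h4, List.map_nil]
  rw [h6, Elts.wordG_nil, commutatorElement_eq_one_iff_mul_comm, Elts.xG_inv, Elts.xG_inv, _root_.neg_neg,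
    _root_.neg_neg] at h5
  exact h5

theorem rspan_comm {K : Type*} [Field K] {s : ℕ} (hs : s ∈ [23, 0]) {A : List ℕ}
    (hA : ∀ r ∈ A, r ∈ [18, 13, 12, 5, 10, 11])
    {x y : GL chevD4.Idx K} (hx : x ∈ rspan (Elts.xG (F := K) Nodes.RGDTwD4.hp.inList) {k | k ∈ [s]})
    (hy : y ∈ rspan (Elts.xG (F := K) Nodes.RGDTwD4.hp.inList) {k | k ∈ A}) : x * y = y * x := by
  have h1 : rspan (Elts.xG (F := K) Nodes.RGDTwD4.hp.inList) {k | k ∈ [s]} ≤
      Subgroup.centralizer (rspan (Elts.xG (F := K) Nodes.RGDTwD4.hp.inList) {k | k ∈ A} : Set _) := by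
    rw [Subgroup.le_centralizer_iff]
    refine (Subgroup.closure_le _).2 ?_
    rintro _ ⟨r, hr, t, rfl⟩
    rw [SetLike.mem_coe, Subgroup.mem_centralizer_iff]
    intro z hz
    refine Subgroup.closure_induction (p := fun z _ => z * Elts.xG Nodes.RGDTwD4.hp.inList r t =
      Elts.xG Nodes.RGDTwD4.hp.inList r t * z) ?_ ?_ ?_ ?_ hz
    · rintro _ ⟨s', hs', u, rfl⟩
      have hs' : s' = s := by simpa using hs'
      subst hs'
      exact comm_xG hs (hA r hr) t u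
    · rw [one_mul, mul_one]
    · intro a b _ _ ha hb
      rw [mul_assoc, hb, ← mul_assoc, ha, mul_assoc]
    · intro a _ ha
      have : Commute a (Elts.xG Nodes.RGDTwD4.hp.inList r t) := ha
      exact this.inv_left
  exact ((Subgroup.mem_centralizer_iff.1 (h1 hx)) y hy).symm

variable {K : Type} [Field K] {q : ℕ} {φ : K →+* K}

section

variable (hφ : ∀ x, φ x = x ^ q) (hle : twistedD4 K q ≤ D4Fixed.fix φ)

theorem Ph_mem {p : ℕ} [Fact p.Prime] [Fintype K] [CharP K p] (hK : Fintype.card K = q ^ 3) (i : Fin 2)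
    (g : Matrix.SpecialLinearGroup (Fin 2) (Fx φ ((Nodes.RGDTwNode.D4.rest i).length + 1))) :
    Ph hφ hle i g ∈ Nodes.RGDTwD4.X φ q (sr i) ⊔ Nodes.RGDTwD4.X φ q (-sr i) := by
  have R := Nodes.RGDTwD4.rgd (K := K) cs hK hφ p
  have hcj : cj (Nodes.RGDTwD4.n hφ i) (Nodes.RGDTwD4.X φ q (sr i)) = Nodes.RGDTwD4.X φ q (-sr i) := by
    rw [R.conj i _ (isRoot_sr cs Nodes.RGDTwD4.isCartan i), rep_simple_sr]
  have h1 : Subgroup.closure (Set.range (up (F := Fx φ ((Nodes.RGDTwNode.D4.rest i).length + 1))) ∪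
      Set.range (lo (F := Fx φ ((Nodes.RGDTwNode.D4.rest i).length + 1)))) ≤
      (Nodes.RGDTwD4.X φ q (sr i) ⊔ Nodes.RGDTwD4.X φ q (-sr i)).comap (Ph hφ hle i) := by
    refine (Subgroup.closure_le _).2 ?_
    rintro x (⟨t, rfl⟩ | ⟨t, rfl⟩)
    · exact Subgroup.mem_sup_left ((mem_X hφ hle i _).2 ⟨t, rfl⟩)
    · refine Subgroup.mem_sup_right ?_
      rw [lo_eq, map_mul, map_mul, map_inv, Cfsg.Agent.BiChar.TwDFour.Ph_wS, ← hcj]
      exact conj_mem_cj.2 ((mem_X hφ hle i _).2 ⟨_, rfl⟩)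
  exact h1 (mem_closure_SL2 g)

theorem comm_hi {s : ℕ} (hs : s ∈ [23, 0]) {x : ↥(twistedD4 K q)}
    (hxs : (x : GL chevD4.Idx K) ∈ rspan (Elts.xG (F := K) Nodes.RGDTwD4.hp.inList) {k | k ∈ [s]})
    {p : ℕ} [Fact p.Prime] [Fintype K] [CharP K p] (hK : Fintype.card K = q ^ 3)
    (g : Matrix.SpecialLinearGroup (Fin 2) (Fx φ ((Nodes.RGDTwNode.D4.rest 1).length + 1))) :
    Ph hφ hle 1 g * x = x * Ph hφ hle 1 g := by
  have h1 := Ph_mem (p := p) hφ hle hK 1 g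
  have h2 : Nodes.RGDTwD4.X φ q (sr 1) ⊔ Nodes.RGDTwD4.X φ q (-sr 1) ≤ Subgroup.centralizer {x} := by
    refine sup_le ?_ ?_
    · intro y hy
      rw [Subgroup.mem_centralizer_singleton_iff]
      have h3 : (y : GL chevD4.Idx K) ∈ R chevD4 Nodes.RGDTwD4.hp K Nodes.RGDTwD4.J (D4Fixed.sig φ) (sr 1) :=
        Subgroup.mem_subgroupOf.1 hy
      rw [R_eq Nodes.RGDTwD4.cls1 (by decide +kernel)] at h3
      exact Subtype.ext (rspan_comm hs (A := [18, 13, 12]) (by decide) hxs h3.1).symm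
    · intro y hy
      rw [Subgroup.mem_centralizer_singleton_iff]
      have h3 : (y : GL chevD4.Idx K) ∈ R chevD4 Nodes.RGDTwD4.hp K Nodes.RGDTwD4.J (D4Fixed.sig φ) (-sr 1) :=
        Subgroup.mem_subgroupOf.1 hy
      rw [R_eq Nodes.RGDTwD4.cls1' (by decide +kernel)] at h3
      exact Subtype.ext (rspan_comm hs (A := [5, 10, 11]) (by decide) hxs h3.1).symm
  exact Subgroup.mem_centralizer_singleton_iff.1 (h2 h1)

theorem up_inj (i : Fin 2) {a b : Fx φ ((Nodes.RGDTwNode.D4.rest i).length + 1)}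
    (h : Ph hφ hle i (up a) = Ph hφ hle i (up b)) : a = b :=
  Phi_up_injective (Nodes.RGDTwD4.foldGrp hφ hle) (Nodes.RGDTwNode.D4.nodeOK i) (hf φ i) h

/-- the action of the torus -/
theorem hS_up {F : Type*} [Field F] {d : F} (hd : d ≠ 0) (t : F) :
    (hS d : Matrix.SpecialLinearGroup (Fin 2) F) * up t = up (d ^ 2 * t) * hS d := by
  apply Subtype.ext
  change (hS d : Matrix.SpecialLinearGroup (Fin 2) F).1 * (up t).1 = (up (d ^ 2 * t)).1 * (hS d).1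
  have h1 : (hS d : Matrix.SpecialLinearGroup (Fin 2) F).1 = !![d, 0; 0, d⁻¹] := coe_hS hd
  rw [h1]
  change !![d, 0; 0, d⁻¹] * !![1, t; 0, 1] = !![1, d ^ 2 * t; 0, 1] * !![d, 0; 0, d⁻¹]
  ext i j
  (revert i j; simp only [_root_.Fin.forall_fin_succ, _root_.Matrix.cons_mul, _root_.Nat.succ_eq_add_one, Nat.reduceAdd, _root_.Matrix.vecMul_cons, _root_.Matrix.head_cons, _root_.Matrix.smul_cons, _root_.smul_eq_mul, _root_.mul_one, _root_.Matrix.smul_empty, _root_.Matrix.tail_cons, _root_.zero_smul, _root_.Matrix.empty_vecMul, _root_.add_zero, _root_.MulZeroClass.mul_zero, _root_.zero_add, _root_.Matrix.empty_mul, _root_.Equiv.symm_apply_apply, _root_.Matrix.of_apply, _root_.Matrix.cons_val', _root_.Matrix.cons_val_fin_one, _root_.one_smul, _root_.Matrix.add_cons, _root_.Matrix.empty_add_empty, Fin.isValue, _root_.Matrix.cons_val_zero, _root_.Matrix.cons_val_succ, _root_.forall_const, _root_.implies_true,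 _root_.and_true, _root_.true_and]) <;> (repeat' with_reducible apply And.intro)
  field_simp

theorem wS_hS {F : Type*} [Field F] {d : F} (hd : d ≠ 0) :
    (wS 1 : Matrix.SpecialLinearGroup (Fin 2) F)⁻¹ * hS d * wS 1 = (hS d)⁻¹ := by
  have h1 : (hS d : Matrix.SpecialLinearGroup (Fin 2) F).1 = !![d, 0; 0, d⁻¹] := coe_hS hd
  have h2 : (wS 1 : Matrix.SpecialLinearGroup (Fin 2) F).1 = !![0, 1; -1, 0] := by
    have := coe_wS (F := F) one_ne_zero
    rw [inv_one] at this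
    exact this
  have h3 : hS d * wS 1 * hS d = (wS 1 : Matrix.SpecialLinearGroup (Fin 2) F) := by
    apply Subtype.ext
    change (hS d : Matrix.SpecialLinearGroup (Fin 2) F).1 * (wS 1 : Matrix.SpecialLinearGroup (Fin 2) F).1 *
      (hS d : Matrix.SpecialLinearGroup (Fin 2) F).1 = _
    rw [h1]
    change _ = (wS 1 : Matrix.SpecialLinearGroup (Fin 2) F).1
    rw [h2]
    ext i j
    (revert i j; simp [hd, _root_.Fin.forall_fin_succ])
  rw [eq_inv_iff_mul_eq_one, mul_assoc, mul_assoc, inv_mul_eq_one, ← mul_assoc]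
  exact h3.symm

theorem hS_mul {F : Type*} [Field F] {c d : F} (hc : c ≠ 0) (hd : d ≠ 0) :
    (hS c : Matrix.SpecialLinearGroup (Fin 2) F) * hS d = hS (c * d) := by
  apply Subtype.ext
  change (hS c : Matrix.SpecialLinearGroup (Fin 2) F).1 * (hS d).1 = (hS (c * d)).1
  have h1 : (hS c : Matrix.SpecialLinearGroup (Fin 2) F).1 = !![c, 0; 0, c⁻¹] := coe_hS hc
  have h2 : (hS d : Matrix.SpecialLinearGroup (Fin 2) F).1 = !![d, 0; 0, d⁻¹] := coe_hS hd
  have h3 : (hS (c * d) : Matrix.SpecialLinearGroup (Fin 2) F).1 = !![c * d, 0; 0, (c * d)⁻¹] :=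
    coe_hS (mul_ne_zero hc hd)
  rw [h1, h2, h3]
  ext i j
  (revert i j; simp [mul_comm, _root_.Fin.forall_fin_succ])

/-- an element `Ph i (hS d)` with `d ^ 2 ≠ 1` acts fixed point freely on the root group -/
theorem free {i : Fin 2} {d : Fx φ ((Nodes.RGDTwNode.D4.rest i).length + 1)} (hd : d ≠ 0) (hd2 : d ^ 2 ≠ 1)
    {t : Fx φ ((Nodes.RGDTwNode.D4.rest i).length + 1)}
    (ht : Ph hφ hle i (hS d) * Ph hφ hle i (up t) = Ph hφ hle i (up t) * Ph hφ hle i (hS d)) : t = 0 := by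
  rw [← map_mul, hS_up hd, map_mul, mul_left_inj] at ht
  have h1 := up_inj hφ hle i ht
  by_contra h0
  apply hd2
  exact mul_right_cancel₀ h0 (by rw [h1, one_mul])

end

variable [Fintype K]

theorem arith {q ℓ : ℕ} (hq : 2 ≤ q) (hℓ : ℓ.Prime)
    (h1 : ℓ ∣ q ^ 12 * (q ^ 2 - 1) * (q ^ 6 - 1) * (q ^ 8 + q ^ 4 + 1)) (h2 : ¬ ℓ ∣ q) :
    ℓ ∣ (q ^ 3 + 1) * (q ^ 8 + q ^ 4 + 1) ∨ (ℓ ≠ 2 ∧ ℓ ∣ q - 1) := by
  obtain ⟨m, rfl⟩ := Nat.exists_eq_add_of_le hq
  have e1 : 2 + m - 1 = m + 1 := by omega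
  have e2 : (2 + m) ^ 2 - 1 = (m + 1) * (2 + m + 1) := by
    rw [show (2 + m) ^ 2 = (m + 1) * (2 + m + 1) + 1 by ring]
    rfl
  have e3 : (2 + m) ^ 6 - 1 = (m + 1) * (((2 + m) ^ 2 + (2 + m) + 1) * ((2 + m) ^ 3 + 1)) := by
    rw [show (2 + m) ^ 6 = (m + 1) * (((2 + m) ^ 2 + (2 + m) + 1) * ((2 + m) ^ 3 + 1)) + 1 by ring]
    rfl
  have e4 : 2 + m + 1 ∣ (2 + m) ^ 3 + 1 := ⟨m ^ 2 + 3 * m + 3, by ring⟩
  have e5 : (2 + m) ^ 2 + (2 + m) + 1 ∣ (2 + m) ^ 8 + (2 + m) ^ 4 + 1 :=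
    ⟨(m ^ 2 + 3 * m + 3) * ((2 + m) ^ 4 - (2 + m) ^ 2 + 1), by
      obtain ⟨k, hk⟩ : ∃ k, (2 + m) ^ 4 = (2 + m) ^ 2 + k := ⟨(2 + m) ^ 2 * (m ^ 2 + 4 * m + 3), by ring⟩
      rw [hk, Nat.add_sub_cancel_left]
      have hk' : k = (2 + m) ^ 2 * (m ^ 2 + 4 * m + 3) := by
        have : (2 + m) ^ 4 = (2 + m) ^ 2 + (2 + m) ^ 2 * (m ^ 2 + 4 * m + 3) := by ring
        omega
      rw [show (2 + m) ^ 8 = (2 + m) ^ 4 * (2 + m) ^ 4 by ring, hk, hk']
      ring⟩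
  rw [e2, e3] at h1
  rw [e1]
  have key : ℓ ∣ m + 1 ∨ ℓ ∣ ((2 + m) ^ 3 + 1) * ((2 + m) ^ 8 + (2 + m) ^ 4 + 1) := by
    rcases hℓ.dvd_mul.1 h1 with h3 | h3
    · rcases hℓ.dvd_mul.1 h3 with h4 | h4
      · rcases hℓ.dvd_mul.1 h4 with h5 | h5
        · exact absurd (hℓ.dvd_of_dvd_pow h5) h2
        · rcases hℓ.dvd_mul.1 h5 with h6 | h6
          · exact Or.inl h6
          · exact Or.inr ((h6.trans e4).mul_right _)
      · rcases hℓ.dvd_mul.1 h4 with h5 | h5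
        · exact Or.inl h5
        · rcases hℓ.dvd_mul.1 h5 with h6 | h6
          · exact Or.inr ((h6.trans e5).mul_left _)
          · exact Or.inr (h6.mul_right _)
    · exact Or.inr (h3.mul_left _)
  rcases key with h3 | h3
  · by_cases h4 : ℓ = 2
    · left
      subst h4
      have h5 : 2 ∣ 2 + m + 1 := by
        rw [show 2 + m + 1 = (m + 1) + 2 by ring]
        exact dvd_add h3 (dvd_refl 2)
      exact (h5.trans e4).mul_right _
    · exact Or.inr ⟨h4, h3⟩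
  · exact Or.inl h3

theorem T_comm : ∀ x ∈ Nodes.RGDTwD4.T K q, ∀ y ∈ Nodes.RGDTwD4.T K q, x * y = y * x := by
  intro x hx y hy
  have hx' : (x : GL chevD4.Idx K) ∈ chevD4.diagonalSubgroup K := (Subgroup.mem_inf.1 (Subgroup.mem_subgroupOf.1 hx)).1
  have hy' : (y : GL chevD4.Idx K) ∈ chevD4.diagonalSubgroup K := (Subgroup.mem_inf.1 (Subgroup.mem_subgroupOf.1 hy)).1
  obtain ⟨χ, hχ⟩ := HMatDiagAll.mem_torus.1 (HMatDiagAll.diagonalSubgroup_le_torus Nodes.RGDTwD4.hp.inList hx')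
  obtain ⟨ψ, hψ⟩ := HMatDiagAll.mem_torus.1 (HMatDiagAll.diagonalSubgroup_le_torus Nodes.RGDTwD4.hp.inList hy')
  apply Subtype.ext
  apply Units.ext
  rw [Subgroup.coe_mul, Subgroup.coe_mul, Units.val_mul, Units.val_mul, hχ, hψ, Matrix.diagonal_mul_diagonal,
    Matrix.diagonal_mul_diagonal]
  congr 1
  funext i
  exact mul_comm _ _

theorem GG_top (hφ : ∀ x, φ x = x ^ q) (hK : Fintype.card K = q ^ 3) :
    GG cs Nodes.RGDTwD4.isCartan (Nodes.RGDTwD4.T K q) (Nodes.RGDTwD4.X φ q) = ⊤ := by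
  rw [eq_top_iff, ← Nodes.RGDTwD4.G1_eq_top cs hK hφ]
  exact le_sup_right

/-- the order of the root group of the node `0` -/
theorem card_X0 (hφ : ∀ x, φ x = x ^ q) (hle : twistedD4 K q ≤ D4Fixed.fix φ) (hq : 1 < q)
    (hK : Fintype.card K = q ^ 3) : Nat.card (Nodes.RGDTwD4.X φ q (sr 0)) = q := by
  have h1 : Nat.card (Fx φ ((Nodes.RGDTwNode.D4.rest 0).length + 1)) = q := by
    rw [← ChevalleyStructure.D4U.card_fix_field hq hK hφ]
    refine Nat.card_congr (Equiv.subtypeEquivRight fun a => ?_)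
    rw [mem_Fx]
    exact Iff.rfl
  refine Eq.trans ?_ h1
  symm
  refine Nat.card_congr (Equiv.ofBijective (fun t => (⟨Ph hφ hle 0 (up t), (mem_X hφ hle 0 _).2 ⟨t, rfl⟩⟩ :
    Nodes.RGDTwD4.X φ q (sr 0))) ⟨fun a b hab => up_inj hφ hle 0 (congrArg Subtype.val hab), ?_⟩)
  rintro ⟨g, hg⟩
  obtain ⟨t, ht⟩ := (mem_X hφ hle 0 g).1 hg
  exact ⟨t, Subtype.ext ht.symm⟩

/-- the index of the parabolic subgroup -/
theorem index_eq' {p : ℕ} [Fact p.Prime] [CharP K p] (hφ : ∀ x, φ x = x ^ q)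
    (hle : twistedD4 K q ≤ D4Fixed.fix φ) (hq : IsPrimePow q) (hK : Fintype.card K = q ^ 3) :
    (PJ cs Nodes.RGDTwD4.isCartan (Nodes.RGDTwD4.T K q) (Nodes.RGDTwD4.X φ q) {0}).index =
      (q ^ 3 + 1) * (q ^ 8 + q ^ 4 + 1) := by
  have : Finite CoxeterMatrix.G₂.Group := Nodes.RGDChev.finite_W Cfsg.Agent.BiChar.GTwo.isType cs
  have R := Nodes.RGDTwD4.rgd (K := K) cs hK hφ p
  have hpp : p.Prime := Fact.out
  obtain ⟨f, hf, hqf⟩ : ∃ f, f ≠ 0 ∧ q = p ^ f := by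
    obtain ⟨p', k, hp', hk, e⟩ := hq
    obtain ⟨m, -, hm⟩ := FiniteField.card K p
    have h1 : p' = p := by
      have h2 : p' ∣ p ^ (m : ℕ) := by
        rw [← hm, hK, ← e]
        exact dvd_pow (dvd_pow_self p' hk.ne') (by norm_num)
      exact (Nat.prime_dvd_prime_iff_eq hp'.nat_prime hpp).1 (hp'.nat_prime.dvd_of_dvd_pow h2)
    exact ⟨k, hk.ne', by rw [← e, h1]⟩
  have hpr : Cfsg.Agent.H35.PoinNum.pr (p ^ f) [2, 6] = (q ^ 2 - 1) * (q ^ 6 - 1) := by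
    rw [Cfsg.Agent.H35.PoinNum.pr_cons, Cfsg.Agent.H35.PoinNum.pr_cons, Cfsg.Agent.H35.PoinNum.pr_nil, mul_one, hqf]
  have hN : Nat.card ↥(PJ cs Nodes.RGDTwD4.isCartan (Nodes.RGDTwD4.T K q) (Nodes.RGDTwD4.X φ q) {0}) =
      (q + 1) * Nat.card ↥(RGD.B cs Nodes.RGDTwD4.isCartan (Nodes.RGDTwD4.T K q) (Nodes.RGDTwD4.X φ q)) := by
    have h1 := Cfsg.Agent.H554.RG.relIndex_B_PJ_singleton R 0
    rw [card_X0 hφ hle hq.one_lt hK] at h1
    rw [← h1, mul_comm]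
    have h2 := Subgroup.relIndex_mul_relIndex ⊥ _ _ bot_le (B_le_PJ (cs := cs)
      (h := Nodes.RGDTwD4.isCartan) (T := Nodes.RGDTwD4.T K q) (X := Nodes.RGDTwD4.X φ q) (J := {0}))
    rw [Subgroup.relIndex_bot_left, Subgroup.relIndex_bot_left] at h2
    exact h2.symm
  have hT : 1 * Nat.card (Nodes.RGDTwD4.T K q) = (q - 1) * (q ^ 3 - 1) := by
    rw [one_mul, ← D4H1.card_H1 hq hK hφ]
    exact Nat.card_congr (Subgroup.subgroupOfEquivOfLe inf_le_right).toEquiv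
  have h1 := Cfsg.Agent.H35.ExcIdx.index_eq (p := p) R (GG_top hφ hK) hN (d := 1) (b := f * 12)
    (P := Cfsg.Agent.H35.PoinNum.pr (p ^ f) [2, 6] * (q ^ 8 + q ^ 4 + 1)) (by
      rw [Nat.dvd_one]
      exact hpp.one_lt.ne') hT (by
      rw [one_mul, Cfsg.Agent.S1067.result hq hK, hpr, pow_mul, ← hqf]
      ring) (by
      rw [hpp.dvd_mul, not_or]
      refine ⟨Cfsg.Agent.H35.ExcIdx.not_dvd_pr hpp hf _ (by simp), fun h2 => ?_⟩
      have h3 : p ∣ q := by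
        rw [hqf]
        exact dvd_pow_self p hf
      have h4 : p ∣ q ^ 8 + q ^ 4 := dvd_add (dvd_pow h3 (by norm_num)) (dvd_pow h3 (by norm_num))
      exact hpp.one_lt.ne' (Nat.dvd_one.1 ((Nat.dvd_add_right h4).1 h2)))
  rw [hpr] at h1
  obtain ⟨m, hm⟩ := Nat.exists_eq_add_of_le hq.two_le
  rw [hm] at h1 ⊢
  have e1 : 2 + m - 1 = m + 1 := by omega
  have e2 : (2 + m) ^ 2 - 1 = (m + 1) * (2 + m + 1) := by
    rw [show (2 + m) ^ 2 = (m + 1) * (2 + m + 1) + 1 by ring]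
    rfl
  have e3 : (2 + m) ^ 3 - 1 = (m + 1) * ((2 + m) ^ 2 + (2 + m) + 1) := by
    rw [show (2 + m) ^ 3 = (m + 1) * ((2 + m) ^ 2 + (2 + m) + 1) + 1 by ring]
    rfl
  have e6 : (2 + m) ^ 6 - 1 = (m + 1) * (((2 + m) ^ 2 + (2 + m) + 1) * ((2 + m) ^ 3 + 1)) := by
    rw [show (2 + m) ^ 6 = (m + 1) * (((2 + m) ^ 2 + (2 + m) + 1) * ((2 + m) ^ 3 + 1)) + 1 by ring]
    rfl
  rw [e1, e2, e3, e6] at h1
  have h3 : 0 < (2 + m + 1) * ((m + 1) * ((m + 1) * ((2 + m) ^ 2 + (2 + m) + 1))) := by (clear * -; positivity)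
  apply Nat.eq_of_mul_eq_mul_right h3
  rw [← mul_assoc, h1]
  ring

omit [Fintype K] in
/-- the element `h_1(-1)` inverts the root group of the central node -/
theorem free_two (hφ : ∀ x, φ x = x ^ q) (hle : twistedD4 K q ≤ D4Fixed.fix φ) (h2K : (2 : K) ≠ 0)
    {t : Fx φ ((Nodes.RGDTwNode.D4.rest 0).length + 1)}
    (ht : Ph hφ hle 1 (hS (-1)) * Ph hφ hle 0 (up t) = Ph hφ hle 0 (up t) * Ph hφ hle 1 (hS (-1))) : t = 0 := by
  have hD : Elts.InList chevD4 := Nodes.RGDTwD4.hp.inList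
  have hne : (-1 : K) ≠ 0 := neg_ne_zero.2 one_ne_zero
  have hφ1 : φ (-1) = -1 := by rw [map_neg, map_one]
  have tab : (chevD4.simple 0 = 18 ∧ chevD4.simple 2 = 13 ∧ chevD4.simple 3 = 12) ∧
      (chevD4.cartan 0 14 = -1 ∧ chevD4.cartan 2 14 = -1 ∧ chevD4.cartan 3 14 = -1) ∧
      (0 < chevD4.rank ∧ 2 < chevD4.rank ∧ 3 < chevD4.rank ∧ 14 < chevD4.nroots) := by decide +kernel
  obtain ⟨⟨s0, s2, s3⟩, ⟨c0, c2, c3⟩, r0, r2, r3, rn⟩ := tab
  have h1 : ∀ u : K, ((Ph hφ hle 1 (hS (-1)) : ↥(twistedD4 K q)) : GL chevD4.Idx K) * Elts.xG hD 14 u =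
      Elts.xG hD 14 (-u) * (Ph hφ hle 1 (hS (-1)) : ↥(twistedD4 K q)) := by
    intro u
    have a0 : ∀ v : K, Elts.hG hD 18 (-1) * Elts.xG hD 14 v = Elts.xG hD 14 (-v) * Elts.hG hD 18 (-1) := by
      intro v
      have := Cfsg.Agent.ETable.Exc.hG_xG hD r0 rn hne v
      rwa [s0, c0, zpow_neg, zpow_one, inv_neg, inv_one, neg_one_mul] at this
    have a2 : ∀ v : K, Elts.hG hD 13 (-1) * Elts.xG hD 14 v = Elts.xG hD 14 (-v) * Elts.hG hD 13 (-1) := by
      intro v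
      have := Cfsg.Agent.ETable.Exc.hG_xG hD r2 rn hne v
      rwa [s2, c2, zpow_neg, zpow_one, inv_neg, inv_one, neg_one_mul] at this
    have a3 : ∀ v : K, Elts.hG hD 12 (-1) * Elts.xG hD 14 v = Elts.xG hD 14 (-v) * Elts.hG hD 12 (-1) := by
      intro v
      have := Cfsg.Agent.ETable.Exc.hG_xG hD r3 rn hne v
      rwa [s3, c3, zpow_neg, zpow_one, inv_neg, inv_one, neg_one_mul] at this
    have e1 : ((Ph hφ hle 1 (hS (-1)) : ↥(twistedD4 K q)) : GL chevD4.Idx K) =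
        Elts.hG hD 18 (-1) * (Elts.hG hD 13 (-1) * (Elts.hG hD 12 (-1) * 1)) := by
      have h2 := coe_hS1 hφ hle (-1)
      have h3 : ((-1 : Fx φ ((Nodes.RGDTwNode.D4.rest 1).length + 1)) : K) = -1 := rfl
      rw [h3, hφ1, hφ1] at h2
      exact h2
    rw [e1, mul_one, mul_assoc, mul_assoc, a3, ← mul_assoc (Elts.hG hD 13 (-1)), a2, mul_assoc, ← mul_assoc, a0,
      mul_assoc, _root_.neg_neg]
  have h2 : ((Ph hφ hle 0 (up t) : ↥(twistedD4 K q)) : GL chevD4.Idx K) = Elts.xG hD 14 (t : K) := by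
    have := coe_Phi_up (Nodes.RGDTwD4.foldGrp hφ hle) (Nodes.RGDTwNode.D4.nodeOK 0) (hf φ 0) t
    refine this.trans ?_
    change Elts.xG hD 14 (t : K) * 1 = _
    rw [mul_one]
  have h3 := congrArg (Subtype.val : ↥(twistedD4 K q) → GL chevD4.Idx K) ht
  rw [Subgroup.coe_mul, Subgroup.coe_mul, h2, h1, mul_left_inj] at h3
  have h4 := Elts.xG_injective hD rn h3
  have h5 : (2 : K) * (t : K) = 0 := by
    linear_combination (-1 : K) * h4
  exact Subtype.ext ((mul_eq_zero.1 h5).resolve_left h2K)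

/-- **The degrees of the Harish-Chandra induced cuspidal characters of `³D₄(q)`.** -/
theorem char_all (hq : IsPrimePow q) (hK : Fintype.card K = q ^ 3) : ∃ (χ : IrrCharacter ↥(twistedD4 K q)) (m : ℕ),
    charDegree (χ : ↥(twistedD4 K q) → ℂ) = ((q ^ 3 + 1) * (q ^ 8 + q ^ 4 + 1)) * m ∧
      (∀ ℓ : ℕ, ℓ.Prime → ℓ ≠ 2 → ℓ ∣ q - 1 → ℓ ∣ m) ∧ ((2 : K) ≠ 0 → 2 ∣ m) := by
  classical
  obtain ⟨p, hch⟩ := CharP.exists K
  have : Fact p.Prime := ⟨CharP.char_is_prime K p⟩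
  obtain ⟨φ, hφ⟩ := D4Fixed.exists_frob hq hK
  have hle := D4Fixed.twisted_le_fix hK hφ
  have : Finite CoxeterMatrix.G₂.Group := Nodes.RGDChev.finite_W Cfsg.Agent.BiChar.GTwo.isType cs
  have Rg := Nodes.RGDTwD4.rgd (K := K) cs hK hφ p
  -- an element of the torus
  obtain ⟨c, hc0, hc4⟩ : ∃ c : Fx φ ((Nodes.RGDTwNode.D4.rest 1).length + 1), c ≠ 0 ∧ c ^ 4 ≠ 1 := by
    have hfin : Finite (Fx φ ((Nodes.RGDTwNode.D4.rest 1).length + 1)) := inferInstance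
    obtain ⟨g, hg⟩ := IsCyclic.exists_generator (α := (Fx φ ((Nodes.RGDTwNode.D4.rest 1).length + 1))ˣ)
    have h1 : Nat.card (Fx φ ((Nodes.RGDTwNode.D4.rest 1).length + 1)) = Nat.card K :=
      Nat.card_congr (Equiv.subtypeUnivEquiv fun t => mem_Fx_three hK hφ t)
    have h2 : orderOf g = Nat.card K - 1 := by
      rw [orderOf_eq_card_of_forall_mem_zpowers hg, Nat.card_units, h1]
    refine ⟨g, g.ne_zero, fun h4 => ?_⟩
    have h5 : g ^ 4 = 1 := Units.ext (by rw [Units.val_pow_eq_pow_val, h4, Units.val_one])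
    have h6 := Nat.le_of_dvd (by norm_num) (orderOf_dvd_of_pow_eq_one h5)
    rw [h2, Nat.card_eq_fintype_card, hK] at h6
    have h7 : 2 ^ 3 ≤ q ^ 3 := Nat.pow_le_pow_left hq.two_le 3
    omega
  have hcc : c * c ≠ 0 := mul_ne_zero hc0 hc0
  obtain ⟨χ, m, h1, h2⟩ := exists_chi_G2_mul Rg (GG_top hφ hK) T_comm (by decide)
    (by
      rw [card_X0 hφ hle hq.one_lt hK]
      exact hq.two_le) (a := Ph hφ hle 1 (hS c)) (Cfsg.Agent.BiChar.TwDFour.Ph_hS hφ hle 1 hc0)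
    (by
      rw [← map_mul, hS_mul hc0 hc0]
      intro h1
      have h3 := free hφ hle hcc (by
        have e : (c * c) ^ 2 = c ^ 4 := by ring
        rw [e]
        exact hc4) (t := 1) (by rw [h1, one_mul, mul_one])
      exact one_ne_zero h3)
    (by
      rw [← Cfsg.Agent.BiChar.TwDFour.Ph_wS hφ hle 1, ← map_inv, ← map_mul, ← map_mul, wS_hS hc0, map_inv])
    (by
      intro u hu
      have hu' : (u : GL chevD4.Idx K) ∈ R chevD4 Nodes.RGDTwD4.hp K Nodes.RGDTwD4.J (D4Fixed.sig φ) ![2, 3] :=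
        Subgroup.mem_subgroupOf.1 hu
      rw [R_eq cls_hi (by decide +kernel)] at hu'
      exact comm_hi hφ hle (s := 23) (by decide) hu'.1 (p := p) hK _)
    (by
      intro u hu
      have hu' : (u : GL chevD4.Idx K) ∈ R chevD4 Nodes.RGDTwD4.hp K Nodes.RGDTwD4.J (D4Fixed.sig φ) (-![2, 3]) :=
        Subgroup.mem_subgroupOf.1 hu
      rw [R_eq cls_hi' (by decide +kernel)] at hu'
      exact comm_hi hφ hle (s := 0) (by decide) hu'.1 (p := p) hK _)
  rw [index_eq' (p := p) hφ hle hq hK] at h1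
  refine ⟨χ, m, h1, fun ℓ hℓ h3 h5 => ?_, fun h2K => ?_⟩
  · refine h2 ℓ hℓ ?_
    have := Fact.mk hℓ
    have hfin : Finite (Fx φ ((Nodes.RGDTwNode.D4.rest 0).length + 1)) := inferInstance
    have := Fintype.ofFinite (Fx φ ((Nodes.RGDTwNode.D4.rest 0).length + 1))
    have hcF : Nat.card (Fx φ ((Nodes.RGDTwNode.D4.rest 0).length + 1)) = q := by
      rw [← ChevalleyStructure.D4U.card_fix_field hq.one_lt hK hφ]
      refine Nat.card_congr (Equiv.subtypeEquivRight fun a => ?_)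
      rw [mem_Fx]
      exact Iff.rfl
    obtain ⟨d, hd⟩ := exists_prime_orderOf_dvd_card' (G := (Fx φ ((Nodes.RGDTwNode.D4.rest 0).length + 1))ˣ) ℓ (by
      rwa [Nat.card_units, hcF])
    have hd1 : (d : Fx φ ((Nodes.RGDTwNode.D4.rest 0).length + 1)) ^ 2 ≠ 1 := by
      intro h6
      have h7 : d ^ 2 = 1 := Units.ext (by rw [Units.val_pow_eq_pow_val, h6, Units.val_one])
      have h8 := orderOf_dvd_of_pow_eq_one h7
      rw [hd] at h8
      exact h3 ((Nat.prime_dvd_prime_iff_eq hℓ Nat.prime_two).1 h8)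
    have hne : Ph hφ hle 0 (hS (d : Fx φ ((Nodes.RGDTwNode.D4.rest 0).length + 1))) ≠ 1 := by
      intro h1
      have := free hφ hle d.ne_zero hd1 (t := 1) (by rw [h1, one_mul, mul_one])
      exact one_ne_zero this
    refine ⟨Ph hφ hle 0 (hS (d : Fx φ ((Nodes.RGDTwNode.D4.rest 0).length + 1))),
      Cfsg.Agent.BiChar.TwDFour.Ph_hS hφ hle 0 d.ne_zero, ?_, ?_⟩
    · refine orderOf_eq_prime ?_ hne
      have h1S : hS (1 : Fx φ ((Nodes.RGDTwNode.D4.rest 0).length + 1)) = 1 := by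
        apply Subtype.ext
        rw [coe_hS one_ne_zero, inv_one]
        exact Matrix.one_fin_two.symm
      have key : ∀ k : ℕ, hS (d : Fx φ ((Nodes.RGDTwNode.D4.rest 0).length + 1)) ^ k =
          hS ((d : Fx φ ((Nodes.RGDTwNode.D4.rest 0).length + 1)) ^ k) := by
        intro k
        induction k with
        | zero => rw [pow_zero, pow_zero, h1S]
        | succ k ih => rw [pow_succ, ih, hS_mul (pow_ne_zero _ d.ne_zero) d.ne_zero, ← pow_succ]
      rw [← map_pow, key, ← Units.val_pow_eq_pow_val, ← hd, pow_orderOf_eq_one, Units.val_one, h1S, map_one]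
    · intro u hu huc
      obtain ⟨t, rfl⟩ := (mem_X hφ hle 0 u).1 hu
      have ht := free hφ hle d.ne_zero hd1 huc
      subst ht
      have h0 : (up 0 : Matrix.SpecialLinearGroup (Fin 2) (Fx φ ((Nodes.RGDTwNode.D4.rest 0).length + 1))) = 1 := by
        apply Subtype.ext
        exact Matrix.one_fin_two.symm
      rw [h0, map_one]
  · refine h2 2 Nat.prime_two ?_
    have hne : (-1 : Fx φ ((Nodes.RGDTwNode.D4.rest 1).length + 1)) ≠ 0 := neg_ne_zero.2 one_ne_zero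
    have hfree : ∀ t : Fx φ ((Nodes.RGDTwNode.D4.rest 0).length + 1), Ph hφ hle 1 (hS (-1)) * Ph hφ hle 0 (up t) =
        Ph hφ hle 0 (up t) * Ph hφ hle 1 (hS (-1)) → t = 0 := by
      intro t ht
      exact free_two hφ hle h2K ht
    have hne1 : Ph hφ hle 1 (hS (-1)) ≠ 1 := by
      intro h1
      exact one_ne_zero (hfree 1 (by rw [h1, one_mul, mul_one]))
    refine ⟨Ph hφ hle 1 (hS (-1)), Cfsg.Agent.BiChar.TwDFour.Ph_hS hφ hle 1 hne, ?_, ?_⟩
    · have := Fact.mk Nat.prime_two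
      refine orderOf_eq_prime ?_ hne1
      rw [← map_pow, pow_two, hS_mul hne hne, neg_mul_neg, one_mul]
      have h1S : hS (1 : Fx φ ((Nodes.RGDTwNode.D4.rest 1).length + 1)) = 1 := by
        apply Subtype.ext
        rw [coe_hS one_ne_zero, inv_one]
        exact Matrix.one_fin_two.symm
      rw [h1S, map_one]
    · intro u hu huc
      obtain ⟨t, rfl⟩ := (mem_X hφ hle 0 u).1 hu
      have ht := hfree t huc
      subst ht
      have h0 : (up 0 : Matrix.SpecialLinearGroup (Fin 2) (Fx φ ((Nodes.RGDTwNode.D4.rest 0).length + 1))) = 1 := by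
        apply Subtype.ext
        exact Matrix.one_fin_two.symm
      rw [h0, map_one]

/-- **The big character of `³D₄(q)`.** -/
theorem big (hq : IsPrimePow q) (hK : Fintype.card K = q ^ 3) : ∃ χ : IrrCharacter ↥(twistedD4 K q),
    ∀ ℓ : ℕ, ℓ.Prime → ℓ ∣ Nat.card ↥(twistedD4 K q) → ¬ ℓ ∣ q → ℓ ∣ charDegree (χ : ↥(twistedD4 K q) → ℂ) := by
  obtain ⟨χ, m, h1, h2, -⟩ := char_all hq hK
  refine ⟨χ, fun ℓ hℓ hd hqℓ => ?_⟩
  rw [Cfsg.Agent.S1067.result hq hK] at hd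
  rw [h1]
  rcases arith hq.two_le hℓ hd hqℓ with h3 | ⟨h3, h5⟩
  · exact h3.mul_right _
  · exact (h2 ℓ hℓ h3 h5).mul_left _

end Cfsg.Agent.H115.HC.TwDFour
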